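import Cfsg.Agent.Lib.Invol.JOneWeak.Embedded
import Cfsg.Agent.Lib.Spor.J1Type.Order
import Cfsg.Agent.Lib.Lie.Mult.Janko

/-!
# Weak closure of type `2 × A₅`: the normal closure is the first Janko group
-/

set_option autoImplicit false
set_option linter.style.haveILetI false

namespace CfsgLib.Invol.JOneWeak

open Subgroup CfsgLib.Invol.JTwo.Icosa CfsgLib.Spor.J1Type
open scoped commutatorElement

universe u

variable {G : Type u} [Group G] [Finite G]

namespace Hyp

variable {ι : M →* G} {S : Sylow 2 G} (h : Hyp ι S)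
include h

/-- A group generated by the class is the first Janko group. -/
theorem isoJ1_of_top (htop : normalClosure ({ι mT} : Set G) = ⊤) (IH : Below.{u} (Nat.card G)) :
    Cfsg.Spor.IsoJ1 G := by
  haveI : Fact (Nat.Prime 2) := ⟨Nat.prime_two⟩
  have hQZ := h.sqC_le_center htop IH
  set f := QuotientGroup.mk' (center G) with hf
  have hfs : Function.Surjective f := QuotientGroup.mk'_surjective _
  have htZ : ι mT ∉ center G := fun hz => by
    obtain ⟨n, -, hn⟩ := h.exists_normalizer_to (i := 2) (by decide)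
    rw [← (mem_center_iff.1 hz n).symm, mul_inv_cancel_right] at hn
    exact absurd (h.sv_injective (hn.symm.trans (sv_one ι).symm)) (by decide)
  have hrZ : ∀ x : M, ι x ∈ center G → x = 1 := fun x hx =>
    h.inj ((h.eq_one_of_mem_range (center G) htZ hx ⟨x, rfl⟩).trans (map_one ι).symm)
  haveI : Nontrivial (G ⧸ center G) := ⟨⟨f (ι mT), 1, fun e => htZ ((QuotientGroup.eq_one_iff _).1 e)⟩⟩
  haveI : IsSimpleGroup (G ⧸ center G) := ⟨fun N hN => by
    by_cases hp : N.comap f = ⊤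
    · right
      rw [← map_comap_eq_self_of_surjective hfs N, hp, map_top_of_surjective f hfs]
    · left
      have := h.le_center htop (N.comap f) hp
      rw [← map_comap_eq_self_of_surjective hfs N, eq_bot_iff, map_le_iff_le_comap, MonoidHom.comap_bot,
        QuotientGroup.ker_mk']
      exact this⟩
  set ι' : M →* G ⧸ center G := f.comp ι with hι'
  have hc : Cent ι' := by
    refine ⟨?_, fun g hg => ?_, fun h16 => ?_⟩
    · rw [← MonoidHom.ker_eq_bot_iff, eq_bot_iff]
      exact fun x hx => mem_bot.2 (hrZ x ((QuotientGroup.eq_one_iff _).1 hx))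
    · obtain ⟨g, rfl⟩ := hfs g
      set z := g * ι mT * g⁻¹ * (ι mT)⁻¹ with hz
      have hzZ : z ∈ center G := by
        refine (QuotientGroup.eq_one_iff z).1 ?_
        show f z = 1
        rw [hz, map_mul, map_mul, map_mul, map_inv, map_inv]
        rw [show f g * f (ι mT) = f (ι mT) * f g from hg, mul_inv_cancel_right, mul_inv_cancel]
      have he : g * ι mT * g⁻¹ = z * ι mT := by rw [hz, inv_mul_cancel_right]
      have hcm : Commute (g * ι mT * g⁻¹) (ι mT) := by
        rw [he]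
        exact (show Commute z (ι mT) from (mem_center_iff.1 hzZ (ι mT)).symm).mul_left (Commute.refl _)
      have hr : z ∈ ι.range := mul_mem (h.mem_range_of_conj hcm.eq) (inv_mem ⟨mT, rfl⟩)
      have hz1 := h.eq_one_of_mem_range (center G) htZ hzZ hr
      rw [hz1, one_mul] at he
      obtain ⟨x, q, hq, rfl⟩ := h.centralizer_t htop (mul_inv_eq_iff_eq_mul.1 he)
      refine ⟨x, ?_⟩
      show f (ι x) = f (ι x * q)
      rw [map_mul, show f q = 1 from (QuotientGroup.eq_one_iff q).2 (hQZ hq), mul_one]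
    · have h' : 16 ∣ Nat.card G := h16.trans (Subgroup.card_quotient_dvd_card _)
      have h8 : Nat.card (S : Subgroup G) = 8 := by rw [h.S_eq htop, h.card_four]
      rw [S.card_eq_multiplicity] at h8
      have h4 := (Nat.Prime.pow_dvd_iff_le_factorization Nat.prime_two Nat.card_pos.ne').1
        (show 2 ^ 4 ∣ Nat.card G from h')
      have := Nat.pow_le_pow_right two_pos h4
      omega
  obtain ⟨e⟩ := CfsgLib.Spor.J1Type.isoJ1 hc (CfsgLib.Spor.J1Type.card_of_cent hc)
  have hker : (e.toMonoidHom.comp f).ker = center G := by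
    ext g
    rw [MonoidHom.mem_ker, MonoidHom.comp_apply, MulEquiv.coe_toMonoidHom, MulEquiv.map_eq_one_iff,
      ← MonoidHom.mem_ker, QuotientGroup.ker_mk']
  have hstem : Cfsg.IsStemExtension (e.toMonoidHom.comp f) :=
    ⟨e.surjective.comp hfs, hker.le, by rw [h.perfect htop]; exact le_top⟩
  exact ⟨MulEquiv.ofBijective (e.toMonoidHom.comp f)
    ⟨(MonoidHom.ker_eq_bot_iff _).1 (CfsgLib.Lie.Mult.j1_stem_ker hstem), hstem.1⟩⟩

/-- The normal closure is the first Janko group, given this for smaller groups. -/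
theorem isoJ1_step (IH : Below.{u} (Nat.card G)) :
    Cfsg.Spor.IsoJ1 ↥(normalClosure ({ι mT} : Set G)) := by
  haveI : Fact (Nat.Prime 2) := ⟨Nat.prime_two⟩
  set L : Subgroup G := normalClosure ({ι mT} : Set G) with hL
  have hLn : L.Normal := normalClosure_normal
  have htL : ι mT ∈ L := subset_normalClosure (Set.mem_singleton _)
  have hW : ι.range ≤ L := by
    rw [h.range_eq]
    refine (closure_le _).2 ?_
    rintro _ ⟨g, rfl, -⟩
    exact hLn.conj_mem _ htL g
  set T : Subgroup L := (S : Subgroup G).comap L.subtype with hT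
  have hTp : IsPGroup 2 T := S.2.comap_subtype
  obtain ⟨P, hP⟩ := hTp.exists_le_sylow
  obtain ⟨g, hg⟩ := CfsgLib.Invol.exists_conj_le_sylow (P.2.map L.subtype) S
  have hPT : (P : Subgroup L) = T := by
    refine (eq_of_le_of_card_ge hP ?_).symm
    refine Nat.card_le_card_of_injective
      (fun x : (P : Subgroup L) => (⟨⟨g * ((x : L) : G) * g⁻¹, hLn.conj_mem _ (x : L).2 g⟩, hg _ ⟨x, x.2, rfl⟩⟩ : T))
      fun a b eq => Subtype.ext (Subtype.ext (mul_left_cancel (mul_right_cancel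
        (congrArg (fun z : T => ((z : L) : G)) eq))))
  -- the whole class is a single class in the normal closure
  have hone : ∀ x : G, ∃ k ∈ L, k * ι mT * k⁻¹ = x * ι mT * x⁻¹ := by
    intro x
    have hxL := hLn.conj_mem _ htL x
    set v : L := ⟨x * ι mT * x⁻¹, hxL⟩ with hv
    have hvo : orderOf v = 2 := by rw [Subgroup.orderOf_mk]; exact invol_conj h.orderOf_t x
    obtain ⟨l, hl⟩ := CfsgLib.Invol.exists_conj_le_sylow (Q := zpowers v)
      (IsPGroup.of_card (n := 1) (by rw [Nat.card_zpowers, hvo, pow_one])) P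
    have hlS : (l : G) * x * ι mT * ((l : G) * x)⁻¹ ∈ (S : Subgroup G) := by
      have : l * v * l⁻¹ ∈ (P : Subgroup L) := hl _ (mem_zpowers v)
      rw [hPT] at this
      have h2 : (l : G) * (x * ι mT * x⁻¹) * (l : G)⁻¹ ∈ (S : Subgroup G) := this
      rwa [show (l : G) * (x * ι mT * x⁻¹) * (l : G)⁻¹ = (l : G) * x * ι mT * ((l : G) * x)⁻¹ by group] at h2
    rw [← sv_one ι] at hlS
    obtain ⟨i, hi⟩ := h.conj_mem_four hlS
    rw [sv_one] at hi
    have hi0 : i ≠ 0 := by
      rintro rfl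
      rw [sv_zero] at hi
      have := invol_conj h.orderOf_t ((l : G) * x)
      rw [← hi, orderOf_one] at this
      norm_num at this
    set K : Subgroup G := nE ι ⊓ L with hK
    obtain ⟨k, hk, hkt⟩ := h.exists_mem_conj K inf_le_left (fun n hn =>
      ⟨(nE ι).mul_mem ((nE ι).mul_mem hn h.b_mem_normalizer) ((nE ι).inv_mem hn), hLn.conj_mem _ (hW ⟨mA b0, rfl⟩) n⟩) hi0
    refine ⟨(l : G)⁻¹ * k, L.mul_mem (L.inv_mem l.2) hk.2, ?_⟩
    rw [show (l : G)⁻¹ * k * ι mT * ((l : G)⁻¹ * k)⁻¹ = (l : G)⁻¹ * (k * ι mT * k⁻¹) * l by group, hkt, hi]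
    group
  have hP' : ∀ i, (⟨sv ι i, hW ⟨vM i, rfl⟩⟩ : L) ∈ (P : Subgroup L) := fun i => by
    rw [hPT]
    exact h.four_le (sv_mem ι i)
  have h' := h.restrict hW P hP' (fun x hx => by rw [hPT] at hx; exact hx) (fun x _ => hone x)
  set ι' : M →* L := ι.codRestrict L fun x => hW ⟨x, rfl⟩ with hι'
  refine h'.isoJ1_of_top (top_le_iff.1 fun z _ => ?_) ?_
  · have hle : L ≤ (normalClosure ({ι' mT} : Set L)).map L.subtype := by
      conv_lhs => rw [hL]
      refine (closure_le _).2 ?_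
      intro y hy
      obtain ⟨s, hs, hsy⟩ := Group.mem_conjugatesOfSet_iff.1 hy
      obtain ⟨x, rfl⟩ := isConj_iff.1 hsy
      rw [Set.mem_singleton_iff.1 hs]
      obtain ⟨k, hk, e⟩ := hone x
      exact ⟨⟨k, hk⟩ * ι' mT * (⟨k, hk⟩ : L)⁻¹,
        normalClosure_normal.conj_mem _ (subset_normalClosure (Set.mem_singleton _)) _, e⟩
    obtain ⟨w, hw, e⟩ := hle z.2
    rwa [← show w = z from Subtype.ext e]
  · intro H _ _ hH
    exact IH H (lt_of_lt_of_le hH (Subgroup.card_le_card_group L))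

end Hyp

/-- The normal closure of the involution is the first Janko group. -/
theorem main {ι : M →* G} {S : Sylow 2 G} (h : Hyp ι S) :
    Cfsg.Spor.IsoJ1 ↥(normalClosure ({ι mT} : Set G)) := by
  suffices hall : ∀ n, Below.{u} n from hall (Nat.card G + 1) G (Nat.lt_succ_self _) ι S h
  intro n
  induction n with
  | zero => intro H _ _ hH; exact absurd hH (Nat.not_lt_zero _)
  | succ n ih =>
    intro H _ _ hH ι' S' h'
    exact h'.isoJ1_step fun K _ _ hK => ih K (lt_of_lt_of_le hK (Nat.lt_succ_iff.1 hH))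

/-- The setting arises from an isomorphism of the weak closure with the concrete group. -/
theorem exists_hyp {t : G} (ht : orderOf t = 2) (S : Sylow 2 G) (htS : t ∈ (S : Subgroup G))
    (htc : ∀ s ∈ (S : Subgroup G), s * t = t * s)
    (e : ↥(Subgroup.closure {x : G | ∃ g : G, x = g * t * g⁻¹ ∧ x * t = t * x}) ≃* M) :
    ∃ ι : M →* G, ι mT = t ∧ Hyp ι S := by
  haveI : Fact (Nat.Prime 2) := ⟨Nat.prime_two⟩
  set W := Subgroup.closure {x : G | ∃ g : G, x = g * t * g⁻¹ ∧ x * t = t * x} with hW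
  set C : Subgroup G := centralizer ({t} : Set G) with hC
  have hWC : W ≤ C := (closure_le _).2 fun x hx => by
    obtain ⟨g, -, hg⟩ := hx
    exact mem_centralizer_singleton_iff.2 hg
  have htW : t ∈ W := subset_closure ⟨1, by group, rfl⟩
  have het : e ⟨t, htW⟩ = mT := by
    refine centre _ ?_ ?_ fun y => ?_
    · rw [← map_mul, MulEquiv.map_eq_one_iff]
      exact Subtype.ext (invol_mul_self ht)
    · intro hh
      rw [MulEquiv.map_eq_one_iff] at hh
      exact invol_ne_one ht (congrArg Subtype.val hh)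
    · obtain ⟨y, rfl⟩ := e.surjective y
      rw [← map_mul, ← map_mul]
      exact congrArg e (Subtype.ext (mem_centralizer_singleton_iff.1 (hWC y.2)).symm)
  set ι₀ : M →* G := W.subtype.comp e.symm.toMonoidHom with hι₀
  have hι₀i : Function.Injective ι₀ := Subtype.val_injective.comp e.symm.injective
  have hι₀t : ι₀ mT = t := by
    rw [← het]
    exact congrArg Subtype.val (e.symm_apply_apply _)
  have hr₀ : ι₀.range = W := by
    ext x
    exact ⟨fun ⟨m, hm⟩ => hm ▸ (e.symm m).2, fun hx => ⟨e ⟨x, hx⟩, congrArg Subtype.val (e.symm_apply_apply _)⟩⟩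
  have hp : IsPGroup 2 (four ι₀) := by
    refine IsPGroup.of_card (n := 3) ?_
    rw [show (2 : ℕ) ^ 3 = 8 by norm_num, ← Nat.card_fin 8]
    exact (Nat.card_congr (Equiv.ofInjective _ fun a b eq => vM_inj _ _ (hι₀i eq))).symm
  have hSC : (S : Subgroup G) ≤ C := fun s hs => mem_centralizer_singleton_iff.2 (htc s hs)
  obtain ⟨c, hc⟩ := CfsgLib.Invol.exists_conj_le_sylow (hp.comap_subtype (K := C)) (S.subtype hSC)
  have hct : (c : G) * t * (c : G)⁻¹ = t := mul_inv_eq_iff_eq_mul.2 (mem_centralizer_singleton_iff.1 c.2)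
  set ι : M →* G := (MulAut.conj (c : G)).toMonoidHom.comp ι₀ with hι
  have hιt : ι mT = t := by
    show (c : G) * ι₀ mT * (c : G)⁻¹ = t
    rw [hι₀t, hct]
  refine ⟨ι, hιt, ⟨(MulAut.conj (c : G)).injective.comp hι₀i, ?_, ?_, ?_⟩⟩
  · rw [hιt]; exact htc
  · rintro _ ⟨i, rfl⟩
    have hm : sv ι₀ i ∈ C := hWC (hr₀ ▸ ⟨vM i, rfl⟩)
    exact hc ⟨_, hm⟩ (mem_subgroupOf.2 (sv_mem ι₀ i))
  · rw [hι, MonoidHom.range_comp, hr₀, hW, MonoidHom.map_closure, ← hι, hιt]
    congr 1
    ext x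
    constructor
    · rintro ⟨y, ⟨g, rfl, hg⟩, rfl⟩
      refine ⟨(c : G) * g * (c : G)⁻¹, ?_, ?_⟩
      · show (c : G) * (g * t * g⁻¹) * (c : G)⁻¹ = _
        conv_rhs => rw [← hct]
        group
      · show (c : G) * (g * t * g⁻¹) * (c : G)⁻¹ * t = t * ((c : G) * (g * t * g⁻¹) * (c : G)⁻¹)
        calc (c : G) * (g * t * g⁻¹) * (c : G)⁻¹ * t
            = (c : G) * (g * t * g⁻¹) * (c : G)⁻¹ * ((c : G) * t * (c : G)⁻¹) := by rw [hct]
          _ = (c : G) * (g * t * g⁻¹ * t) * (c : G)⁻¹ := by group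
          _ = (c : G) * (t * (g * t * g⁻¹)) * (c : G)⁻¹ := by rw [hg]
          _ = (c : G) * t * (c : G)⁻¹ * ((c : G) * (g * t * g⁻¹) * (c : G)⁻¹) := by group
          _ = t * ((c : G) * (g * t * g⁻¹) * (c : G)⁻¹) := by rw [hct]
    · rintro ⟨g, rfl, hg⟩
      have hct' : (c : G)⁻¹ * t * c = t := by
        conv_lhs => rw [← hct]
        group
      refine ⟨(c : G)⁻¹ * g * t * ((c : G)⁻¹ * g)⁻¹, ⟨_, rfl, ?_⟩, ?_⟩
      · calc (c : G)⁻¹ * g * t * ((c : G)⁻¹ * g)⁻¹ * t
            = (c : G)⁻¹ * g * t * ((c : G)⁻¹ * g)⁻¹ * ((c : G)⁻¹ * t * c) := by rw [hct']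
          _ = (c : G)⁻¹ * (g * t * g⁻¹ * t) * c := by group
          _ = (c : G)⁻¹ * (t * (g * t * g⁻¹)) * c := by rw [hg]
          _ = (c : G)⁻¹ * t * c * ((c : G)⁻¹ * g * t * ((c : G)⁻¹ * g)⁻¹) := by group
          _ = t * ((c : G)⁻¹ * g * t * ((c : G)⁻¹ * g)⁻¹) := by rw [hct']
      · show (c : G) * ((c : G)⁻¹ * g * t * ((c : G)⁻¹ * g)⁻¹) * (c : G)⁻¹ = _
        group

end CfsgLib.Invol.JOneWeak
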