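import Cfsg.Agent.Lib.Invol.JOneWeak.Model
import Cfsg.Agent.Lib.Invol.Basic

/-!
# Weak closure of type `2 × A₅`: the setting and the Sylow subgroup of the weak closure
-/

set_option autoImplicit false

namespace CfsgLib.Invol.JOneWeak

open Subgroup CfsgLib.Invol.JTwo.Icosa CfsgLib.Spor.J1Type

universe u

variable {G : Type u} [Group G]

/-- The weak closure of the involution in its centralizer is the image of the concrete group, the
involution is central in the given Sylow subgroup and that subgroup contains the standard eight. -/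
structure Hyp (ι : M →* G) (S : Sylow 2 G) : Prop where
  inj : Function.Injective ι
  cen : ∀ s ∈ (S : Subgroup G), s * ι mT = ι mT * s
  four_le : four ι ≤ (S : Subgroup G)
  range_eq : ι.range =
    closure {x : G | ∃ g : G, x = g * ι mT * g⁻¹ ∧ x * ι mT = ι mT * x}

namespace Hyp

variable {ι : M →* G} {S : Sylow 2 G} (h : Hyp ι S)
include h

theorem sv_injective : Function.Injective (sv ι) := fun _ _ e => vM_inj _ _ (h.inj e)

omit h in
theorem sv_one (ι : M →* G) : sv ι 1 = ι mT := by rw [sv, vM_vals.2.1]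

omit h in
theorem mem_range_sv (ι : M →* G) (i : Fin 8) : sv ι i ∈ ι.range := ⟨vM i, rfl⟩

theorem sv_eq_one {i : Fin 8} (e : sv ι i = 1) : i = 0 := h.sv_injective (e.trans (sv_zero ι).symm)

theorem orderOf_t : orderOf (ι mT) = 2 :=
  orderOf_eq_prime (by rw [sq, ← map_mul, mT_rel.1, map_one])
    fun e => mT_rel.2.1 (h.inj (e.trans (map_one ι).symm))

theorem card_four : Nat.card (four ι) = 8 := by
  rw [← Nat.card_fin 8]
  exact (Nat.card_congr (Equiv.ofInjective _ h.sv_injective)).symm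

theorem card_range : Nat.card ι.range = 120 := by
  rw [← Nat.card_congr (MonoidHom.ofInjective h.inj).toEquiv, card_M]

omit h in
theorem commute_t (ι : M →* G) (x : M) : Commute (ι x) (ι mT) := by
  show ι x * ι mT = ι mT * ι x
  rw [← map_mul, ← map_mul, mT_rel.2.2]

theorem mem_range_of_conj {g : G} (hc : g * ι mT * g⁻¹ * ι mT = ι mT * (g * ι mT * g⁻¹)) :
    g * ι mT * g⁻¹ ∈ ι.range := h.range_eq ▸ subset_closure ⟨g, rfl, hc⟩

theorem conj_mem_range {c x : G} (hc : Commute c (ι mT)) (hx : x ∈ ι.range) : c * x * c⁻¹ ∈ ι.range := by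
  have : ι.range ≤ ι.range.comap (MulAut.conj c).toMonoidHom := by
    conv_lhs => rw [h.range_eq]
    refine (closure_le _).2 ?_
    rintro _ ⟨g, rfl, hg⟩
    show c * (g * ι mT * g⁻¹) * c⁻¹ ∈ ι.range
    have e : c * (g * ι mT * g⁻¹) * c⁻¹ = c * g * ι mT * (c * g)⁻¹ := by group
    rw [e]
    refine h.mem_range_of_conj ?_
    rw [← e]
    have h1 : c * ι mT * c⁻¹ = ι mT := by rw [hc.eq, mul_inv_cancel_right]
    calc c * (g * ι mT * g⁻¹) * c⁻¹ * ι mT = c * (g * ι mT * g⁻¹) * c⁻¹ * (c * ι mT * c⁻¹) := by rw [h1]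
      _ = c * (g * ι mT * g⁻¹ * ι mT) * c⁻¹ := by group
      _ = c * (ι mT * (g * ι mT * g⁻¹)) * c⁻¹ := by rw [hg]
      _ = c * ι mT * c⁻¹ * (c * (g * ι mT * g⁻¹) * c⁻¹) := by group
      _ = ι mT * (c * (g * ι mT * g⁻¹) * c⁻¹) := by rw [h1]
  exact this hx

theorem range_le_centralizer : ι.range ≤ centralizer ({ι mT} : Set G) := by
  rintro _ ⟨x, rfl⟩
  exact mem_centralizer_singleton_iff.2 (commute_t ι x).eq

theorem commute_of_mem_S {s : G} (hs : s ∈ (S : Subgroup G)) : Commute s (ι mT) := h.cen s hs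

variable [Finite G]

theorem isPGroup_inf_range : IsPGroup 2 ((S : Subgroup G) ⊓ ι.range : Subgroup G) :=
  S.2.to_le inf_le_left

theorem inf_range_eq : (S : Subgroup G) ⊓ ι.range = four ι := by
  refine (eq_of_le_of_card_ge (le_inf h.four_le ?_) ?_).symm
  · rintro _ ⟨i, rfl⟩
    exact mem_range_sv ι i
  · obtain ⟨n, hn⟩ := h.isPGroup_inf_range.exists_card_eq
    have hd := card_dvd_of_le (inf_le_right : (S : Subgroup G) ⊓ ι.range ≤ ι.range)
    rw [hn, h.card_range] at hd
    rw [h.card_four, hn, show (8 : ℕ) = 2 ^ 3 by norm_num]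
    refine Nat.pow_le_pow_right two_pos ?_
    by_contra hlt
    have := (pow_dvd_pow 2 (show 4 ≤ n by omega)).trans hd
    norm_num at this

theorem mem_four_of_mem {g : G} (hS : g ∈ (S : Subgroup G)) (hr : g ∈ ι.range) : g ∈ four ι :=
  h.inf_range_eq ▸ ⟨hS, hr⟩

theorem mem_normalizer_four {g : G} (hg : ∀ i, g * sv ι i * g⁻¹ ∈ four ι) :
    g ∈ normalizer (four ι : Set G) := by
  rw [mem_normalizer_iff_map_conj_eq]
  refine eq_of_le_of_card_ge ?_ (by rw [card_map_of_injective (MulAut.conj g).injective])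
  rintro _ ⟨_, ⟨i, rfl⟩, rfl⟩
  exact hg i

omit h [Finite G] in
theorem conj_four {g : G} (hg : g ∈ normalizer (four ι : Set G)) (i : Fin 8) :
    ∃ j, g * sv ι i * g⁻¹ = sv ι j := by
  obtain ⟨j, e⟩ := (mem_normalizer_iff.1 hg _).1 (sv_mem ι i)
  exact ⟨j, e.symm⟩

theorem S_le_normalizer : (S : Subgroup G) ≤ normalizer (four ι : Set G) := fun s hs =>
  h.mem_normalizer_four fun i => h.mem_four_of_mem
    (mul_mem (mul_mem hs (h.four_le (sv_mem ι i))) (inv_mem hs))
    (h.conj_mem_range (h.commute_of_mem_S hs) (mem_range_sv ι i))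

/-- The image of the element of order three. -/
theorem b_mem_normalizer : ι (mA b0) ∈ normalizer (four ι : Set G) :=
  h.mem_normalizer_four fun i => ⟨bOp i, by rw [sv, sv, ← map_inv, ← map_mul, ← map_mul, vM_conj]⟩

omit h [Finite G] in
theorem b_conj (ι : M →* G) (i : Fin 8) : ι (mA b0) * sv ι i * (ι (mA b0))⁻¹ = sv ι (bOp i) := by
  rw [sv, sv, ← map_inv, ← map_mul, ← map_mul, vM_conj]

/-- Some conjugate of the involution in the standard eight differs from it. -/
theorem exists_ne_conj : ∃ i : Fin 8, i ≠ 1 ∧ IsConj (ι mT) (sv ι i) := by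
  by_contra hno
  push Not at hno
  have hall : ∀ x ∈ {x : G | ∃ g : G, x = g * ι mT * g⁻¹ ∧ x * ι mT = ι mT * x}, x = ι mT := by
    rintro _ ⟨g, rfl, hg⟩
    obtain ⟨x, hx⟩ := h.mem_range_of_conj hg
    have hx2 : x * x = 1 := h.inj (by
      rw [map_mul, hx, map_one, ← sq]
      simpa [conj_pow] using (show (ι mT) ^ 2 = 1 by rw [sq, ← map_mul, mT_rel.1, map_one]))
    have hx1 : x ≠ 1 := fun e => by
      rw [e, map_one, eq_comm, mul_inv_eq_one, mul_eq_left] at hx
      exact mT_rel.2.1 (h.inj (hx.trans (map_one ι).symm))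
    obtain ⟨c, i, hi, e⟩ := invol_to_four x hx2 hx1
    have hi1 : i = 1 := by
      by_contra hne
      refine hno i hne (isConj_iff.2 ⟨ι c * g, ?_⟩)
      rw [sv, ← e, map_mul, map_mul, map_inv, hx]; group
    rw [hi1, vM_vals.2.1, mul_inv_eq_iff_eq_mul, mT_rel.2.2] at e
    rw [← hx, mul_left_cancel e]
  have hle : ι.range ≤ zpowers (ι mT) := by
    rw [h.range_eq]
    exact (closure_le _).2 fun x hx => by rw [hall x hx]; exact mem_zpowers _
  have := card_dvd_of_le hle
  rw [h.card_range, Nat.card_zpowers, h.orderOf_t] at this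
  norm_num at this

open Classical in
/-- The indices of the conjugates of the involution in the standard eight. -/
noncomputable def conjSet (_ : Hyp ι S) : Finset (Fin 8) :=
  Finset.univ.filter fun i => i ≠ 0 ∧ IsConj (ι mT) (sv ι i)

theorem mem_conjSet {i : Fin 8} : i ∈ h.conjSet ↔ i ≠ 0 ∧ IsConj (ι mT) (sv ι i) := by
  simp [conjSet]

theorem ne_zero_of_conj {i : Fin 8} (hc : IsConj (ι mT) (sv ι i)) : i ≠ 0 := by
  rintro rfl
  rw [sv_zero, isConj_one_left] at hc
  exact mT_rel.2.1 (h.inj (hc.trans (map_one ι).symm))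

theorem conjSet_facts : 0 ∉ h.conjSet ∧ (1 : Fin 8) ∈ h.conjSet ∧ (∃ i ∈ h.conjSet, i ≠ 1) ∧
    ∀ i ∈ h.conjSet, bOp i ∈ h.conjSet := by
  refine ⟨fun e => (h.mem_conjSet.1 e).1 rfl, h.mem_conjSet.2 ⟨by decide, by rw [sv_one]⟩, ?_, fun i hi => ?_⟩
  · obtain ⟨i, hi, hc⟩ := h.exists_ne_conj
    exact ⟨i, h.mem_conjSet.2 ⟨h.ne_zero_of_conj hc, hc⟩, hi⟩
  · have hc := (h.mem_conjSet.1 hi).2.trans (isConj_iff.2 ⟨_, b_conj ι i⟩)
    exact h.mem_conjSet.2 ⟨h.ne_zero_of_conj hc, hc⟩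

/-- The standard eight lies in the conjugate of the weak closure at each of its conjugates of `t`. -/
theorem four_le_conj {g : G} {i : Fin 8} (hg : g * ι mT * g⁻¹ = sv ι i) (j : Fin 8) :
    g⁻¹ * sv ι j * g ∈ ι.range := by
  have key : ∀ a ∈ h.conjSet, g⁻¹ * sv ι a * g ∈ ι.range := by
    intro a ha
    obtain ⟨k, hk⟩ := isConj_iff.1 (h.mem_conjSet.1 ha).2
    have e : g⁻¹ * sv ι a * g = g⁻¹ * k * ι mT * (g⁻¹ * k)⁻¹ := by rw [← hk]; group
    rw [e]
    refine h.mem_range_of_conj ?_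
    rw [← e]
    have h1 : g⁻¹ * sv ι i * g = ι mT := by rw [← hg]; group
    rw [← h1, show g⁻¹ * sv ι a * g * (g⁻¹ * sv ι i * g) = g⁻¹ * (sv ι a * sv ι i) * g by group,
      show g⁻¹ * sv ι i * g * (g⁻¹ * sv ι a * g) = g⁻¹ * (sv ι i * sv ι a) * g by group,
      sv_mul, sv_mul, vAdd_comm]
  obtain ⟨h0, h1, h2, h3⟩ := h.conjSet_facts
  rcases span_of_two h.conjSet h0 h1 h2 h3 j with rfl | hj | ⟨a, ha, b, hb, rfl⟩
  · simp [sv_zero]
  · exact key j hj
  · rw [← sv_mul, show g⁻¹ * (sv ι a * sv ι b) * g = (g⁻¹ * sv ι a * g) * (g⁻¹ * sv ι b * g) by group]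
    exact mul_mem (key a ha) (key b hb)

/-- Conjugates of the involution in the standard eight are conjugate in its normalizer. -/
theorem exists_normalizer_conj {i : Fin 8} (hc : IsConj (ι mT) (sv ι i)) :
    ∃ n ∈ normalizer (four ι : Set G), n * ι mT * n⁻¹ = sv ι i := by
  haveI : Fact (Nat.Prime 2) := ⟨Nat.prime_two⟩
  obtain ⟨g, hg⟩ := isConj_iff.1 hc
  set E' : Subgroup G := (four ι).map (MulAut.conj g⁻¹).toMonoidHom with hE'
  have hle : E' ≤ ι.range := by
    rintro _ ⟨_, ⟨j, rfl⟩, rfl⟩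
    simpa using h.four_le_conj hg j
  have hcard : Nat.card E' = 8 := by
    rw [hE', card_map_of_injective (MulAut.conj g⁻¹).injective, h.card_four]
  have hM8 : Nat.card (E'.comap ι) = 8 := by
    rw [← card_map_of_injective (f := ι) h.inj, map_comap_eq_self hle, hcard]
  have hV8 : Nat.card ((four ι).comap ι) = 8 := by
    rw [← card_map_of_injective (f := ι) h.inj,
      map_comap_eq_self (by rintro _ ⟨j, rfl⟩; exact mem_range_sv ι j), h.card_four]
  have hfac : 2 ^ (Nat.card M).factorization 2 = 8 := by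
    rw [card_M]
    have h1 : (120 : ℕ).factorization 2 = 3 := by
      refine le_antisymm ?_ ((Nat.Prime.pow_dvd_iff_le_factorization Nat.prime_two (by norm_num)).1 (by norm_num))
      by_contra hlt
      have := (Nat.Prime.pow_dvd_iff_le_factorization Nat.prime_two (by norm_num : (120 : ℕ) ≠ 0)).2
        (show 4 ≤ (120 : ℕ).factorization 2 by omega)
      norm_num at this
    rw [h1]; norm_num
  let P₁ : Sylow 2 M := Sylow.ofCard (E'.comap ι) (by rw [hM8, hfac])
  let P₂ : Sylow 2 M := Sylow.ofCard ((four ι).comap ι) (by rw [hV8, hfac])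
  obtain ⟨w, hw⟩ := MulAction.exists_smul_eq M P₁ P₂
  have hmem : ∀ x, x ∈ E'.comap ι → w * x * w⁻¹ ∈ (four ι).comap ι := by
    intro x hx
    have : w * x * w⁻¹ ∈ ((w • P₁ : Sylow 2 M) : Subgroup M) := by
      rw [Sylow.coe_subgroup_smul]
      exact ⟨x, hx, rfl⟩
    rw [hw] at this
    exact this
  refine ⟨g * (ι w)⁻¹, ?_, ?_⟩
  · refine inv_mem_iff.1 (h.mem_normalizer_four fun j => ?_)
    obtain ⟨x, hx⟩ := h.four_le_conj hg j
    have hxE : x ∈ E'.comap ι := ⟨sv ι j, sv_mem ι j, by simp [hx]⟩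
    have := hmem x hxE
    rw [mem_comap, map_mul, map_mul, map_inv, hx] at this
    convert this using 1
    group
  · rw [mul_inv_rev, inv_inv, show g * (ι w)⁻¹ * ι mT * (ι w * g⁻¹) =
      g * ((ι w)⁻¹ * (ι mT * ι w)) * g⁻¹ by group, ← (commute_t ι w).eq, inv_mul_cancel_left, hg]

open Classical in
theorem odd_conjSet : h.conjSet.card % 2 = 1 := by
  set N : Subgroup G := normalizer (four ι : Set G) with hN
  set T : Subgroup G := N ⊓ centralizer ({ι mT} : Set G) with hT
  have hST : (S : Subgroup G) ≤ T := le_inf h.S_le_normalizer fun s hs =>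
    mem_centralizer_singleton_iff.2 (h.cen s hs)
  haveI : Fact (Nat.Prime 2) := ⟨Nat.prime_two⟩
  have hodd : ¬ 2 ∣ T.relIndex N := fun h2 =>
    S.not_dvd_index ((h2.trans (relIndex_dvd_index_of_le inf_le_left)).trans (index_dvd_of_le hST))
  have hex : ∀ n : N, ∃ i ∈ h.conjSet, sv ι i = (n : G) * ι mT * (n : G)⁻¹ := by
    intro n
    obtain ⟨j, hj⟩ := conj_four n.2 1
    rw [sv_one] at hj
    have hc : IsConj (ι mT) (sv ι j) := isConj_iff.2 ⟨_, hj⟩
    exact ⟨j, h.mem_conjSet.2 ⟨h.ne_zero_of_conj hc, hc⟩, hj.symm⟩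
  choose idx hidx hidxe using hex
  let f : N ⧸ T.subgroupOf N → h.conjSet := Quotient.lift (fun n => ⟨idx n, hidx n⟩) fun a b hab => by
    have hm : a⁻¹ * b ∈ T.subgroupOf N := QuotientGroup.leftRel_apply.1 hab
    have hc : ((a : G)⁻¹ * b) * ι mT = ι mT * ((a : G)⁻¹ * b) :=
      mem_centralizer_singleton_iff.1 (mem_subgroupOf.1 hm).2
    refine Subtype.ext (h.sv_injective ?_)
    rw [hidxe, hidxe]
    calc (a : G) * ι mT * (a : G)⁻¹ = (a : G) * (ι mT * ((a : G)⁻¹ * b)) * (b : G)⁻¹ := by group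
      _ = (b : G) * ι mT * (b : G)⁻¹ := by rw [← hc]; group
  have hbij : Function.Bijective f := by
    constructor
    · rintro ⟨a⟩ ⟨b⟩ hab
      refine Quotient.sound (QuotientGroup.leftRel_apply.2 (mem_subgroupOf.2 ⟨N.mul_mem (N.inv_mem a.2) b.2, ?_⟩))
      have e : (a : G) * ι mT * (a : G)⁻¹ = (b : G) * ι mT * (b : G)⁻¹ := by
        rw [← hidxe a, ← hidxe b]
        exact congrArg (fun z : h.conjSet => sv ι z.1) hab
      refine mem_centralizer_singleton_iff.2 ?_
      calc (a : G)⁻¹ * b * ι mT = (a : G)⁻¹ * ((b : G) * ι mT * (b : G)⁻¹) * b := by group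
        _ = ι mT * ((a : G)⁻¹ * b) := by rw [← e]; group
    · rintro ⟨i, hi⟩
      obtain ⟨n, hn, e⟩ := h.exists_normalizer_conj (h.mem_conjSet.1 hi).2
      exact ⟨QuotientGroup.mk ⟨n, hn⟩, Subtype.ext (h.sv_injective ((hidxe ⟨n, hn⟩).trans e))⟩
  have hcard := Nat.card_eq_of_bijective f hbij
  rw [Nat.card_eq_fintype_card (α := h.conjSet), Fintype.card_coe] at hcard
  have : T.relIndex N = h.conjSet.card := hcard
  omega

/-- All involutions of the standard eight are conjugate in its normalizer. -/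
theorem exists_normalizer_to {i : Fin 8} (hi : i ≠ 0) :
    ∃ n ∈ normalizer (four ι : Set G), n * ι mT * n⁻¹ = sv ι i := by
  obtain ⟨h0, h1, h2, h3⟩ := h.conjSet_facts
  exact h.exists_normalizer_conj (h.mem_conjSet.1 (full_of_odd _ h0 h1 h2 h3 h.odd_conjSet i hi)).2

end Hyp

end CfsgLib.Invol.JOneWeak
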