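import Cfsg.Agent.Lib.Char.J1.Spectrum
import Mathlib.GroupTheory.Sylow

/-!
# The first Janko group has no subgroup of odd order divisible by 77
-/

set_option autoImplicit false
set_option linter.style.haveILetI false

namespace CfsgLib.Invol.JOneWeak

open Subgroup CfsgLib.Char.J1

set_option maxRecDepth 100000 in
theorem divisor_check : ∀ k : Fin 286, 285 % k.1 = 0 → 11 * k.1 % 7 ≠ 1 := by decide +kernel

theorem eleven_power : ∀ i : Fin 7, i.1 ^ 11 % 7 = 1 → i.1 = 1 := by decide +kernel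

theorem false_of_odd_seventy_seven {J : Type*} [Group J] [Finite J] (e : J ≃* ↥Cfsg.Spor.J1)
    (K : Subgroup J) (hodd : Odd (Nat.card K)) (h7 : 7 ∣ Nat.card K) (h11 : 11 ∣ Nat.card K) : False := by
  haveI : Fact (Nat.Prime 7) := ⟨by norm_num⟩
  haveI : Fact (Nat.Prime 11) := ⟨by norm_num⟩
  have hJ : Nat.card J = 175560 := (Nat.card_congr e.toEquiv).trans card_eq
  have hK : Nat.card K ∣ 21945 := by
    have h := hJ ▸ Subgroup.card_subgroup_dvd_card K
    have hcop : (Nat.card K).Coprime 8 :=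
      Nat.Coprime.pow_right 3 (Nat.coprime_two_right.2 hodd)
    exact hcop.dvd_of_dvd_mul_left (show Nat.card K ∣ 8 * 21945 from h)
  obtain ⟨P⟩ : Nonempty (Sylow 7 K) := inferInstance
  have hP : Nat.card (P : Subgroup K) = 7 := by
    rw [P.card_eq_multiplicity]
    have h1 : (Nat.card K).factorization 7 = 1 := by
      refine le_antisymm ?_ ((Nat.Prime.dvd_iff_one_le_factorization (by norm_num) Nat.card_pos.ne').1 h7)
      by_contra hlt
      have := ((Nat.Prime.pow_dvd_iff_le_factorization (by norm_num : Nat.Prime 7) Nat.card_pos.ne').2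
        (show 2 ≤ (Nat.card K).factorization 7 by omega)).trans hK
      norm_num at this
    rw [h1, pow_one]
  set n := Nat.card (Sylow 7 K) with hn
  have hmod : n % 7 = 1 := card_sylow_modEq_one 7 K
  have hn1 : n ∣ 3135 := by
    refine (Sylow.card_dvd_index P).trans ?_
    have h := (P : Subgroup K).card_mul_index
    rw [hP] at h
    exact Nat.dvd_of_mul_dvd_mul_left (by norm_num) (show 7 * _ ∣ 7 * 3135 by rw [h]; exact hK)
  have hn11 : ¬ 11 ∣ n := fun hd => by
    obtain ⟨k, hk⟩ := hd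
    have hk1 : k ∣ 285 := Nat.dvd_of_mul_dvd_mul_left (by norm_num)
      (show 11 * k ∣ 11 * 285 from hk ▸ hn1)
    exact divisor_check ⟨k, Nat.lt_succ_of_le (Nat.le_of_dvd (by norm_num) hk1)⟩
      (Nat.mod_eq_zero_of_dvd hk1) (hk ▸ hmod)
  set N := normalizer (P : Set K) with hN
  have hN11 : 11 ∣ Nat.card N := by
    have h := N.index_mul_card
    rw [hN, ← Sylow.card_eq_index_normalizer P, ← hn] at h
    exact ((Nat.Prime.dvd_mul (by norm_num)).1 (h ▸ h11)).resolve_left hn11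
  obtain ⟨y, hy⟩ := exists_prime_orderOf_dvd_card' (G := N) 11 hN11
  haveI : IsCyclic (P : Subgroup K) := isCyclic_of_prime_card hP
  obtain ⟨x, hx⟩ := IsCyclic.exists_generator (α := (P : Subgroup K))
  have hxo : orderOf x = 7 := by rw [orderOf_eq_card_of_forall_mem_zpowers hx, hP]
  obtain ⟨i, hi⟩ := mem_powers_iff_mem_zpowers.2 (hx ⟨_, (mem_normalizer_iff.1 y.2 x).1 x.2⟩)
  have hi' : (x : K) ^ i = (y : K) * x * (y : K)⁻¹ := congrArg Subtype.val hi
  have hiter : ∀ k : ℕ, (y : K) ^ k * x * ((y : K) ^ k)⁻¹ = (x : K) ^ (i ^ k) := by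
    intro k
    induction k with
    | zero => simp
    | succ k ih =>
      rw [pow_succ' (y : K), show (y : K) * (y : K) ^ k * x * ((y : K) * (y : K) ^ k)⁻¹ =
        (y : K) * ((y : K) ^ k * x * ((y : K) ^ k)⁻¹) * (y : K)⁻¹ by group, ih, ← conj_pow, ← hi',
        ← pow_mul, pow_succ' i]
  have hy11 : (y : K) ^ 11 = 1 := by
    rw [← SubmonoidClass.coe_pow, ← hy, pow_orderOf_eq_one]; rfl
  have h := hiter 11
  rw [hy11, one_mul, inv_one, mul_one] at h
  have hxK : orderOf (x : K) = 7 := by rw [Subgroup.orderOf_coe, hxo]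
  have hmod' : i ^ 11 % 7 = 1 := by
    have h2 : (x : K) ^ 1 = (x : K) ^ (i ^ 11) := by rw [pow_one]; exact h
    have h3 := pow_eq_pow_iff_modEq.1 h2
    rw [hxK] at h3
    exact h3.symm
  have hi1 : i % 7 = 1 := eleven_power ⟨i % 7, Nat.mod_lt _ (by norm_num)⟩ (by rw [← Nat.pow_mod]; exact hmod')
  rw [← pow_mod_orderOf, hxK, hi1, pow_one] at hi'
  have hc : Commute (y : K) x := (mul_inv_eq_iff_eq_mul.1 hi'.symm)
  have hyK : orderOf (y : K) = 11 := by rw [Subgroup.orderOf_coe, hy]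
  have h77 : orderOf ((y : K) * x) = 77 := by
    rw [hc.orderOf_mul_eq_mul_orderOf_of_coprime (by rw [hyK, hxK]; norm_num), hyK, hxK]
  have hm : orderOf (e (((y : K) * x : K) : J)) ∈ Set.range (orderOf : ↥Cfsg.Spor.J1 → ℕ) := ⟨_, rfl⟩
  rw [range_orderOf, MulEquiv.orderOf_eq, Subgroup.orderOf_coe, h77] at hm
  simp at hm

end CfsgLib.Invol.JOneWeak
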