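import Cfsg.Agent.Lib.Invol.JOneWeak.Perfect
import Cfsg.Agent.Lib.Invol.JOneWeak.OddSubgroup
import Cfsg.Agent.Lib.Invol.SECriterion.Factor
import Cfsg.Agent.Lib.Invol.SECriterion.Instances
import Cfsg.Agent.Lib.Spor.J1Order.Basic
import Cfsg.Agent.Lib.Char.J1.Structure
import Cfsg.Prelude.Def_Spor_J1

/-!
# Weak closure of type `2 × A₅`: the squares are central

The normalizer of the squares would be strongly embedded, and the odd core of a two point
stabilizer would give the first Janko group a subgroup of odd order divisible by 77.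
-/

set_option autoImplicit false
set_option linter.style.haveILetI false
set_option linter.unusedSectionVars false

namespace CfsgLib.Invol.JOneWeak

open Subgroup CfsgLib.Invol.JTwo.Icosa CfsgLib.Spor.J1Type

universe u

/-- The theorem for the groups of order less than `n`. -/
def Below (n : ℕ) : Prop :=
  ∀ (H : Type u) [Group H] [Finite H], Nat.card H < n → ∀ (ι : M →* H) (S : Sylow 2 H), Hyp ι S →
    Cfsg.Spor.IsoJ1 ↥(normalClosure ({ι mT} : Set H))

variable {G : Type u} [Group G] [Finite G]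

namespace Hyp

variable {ι : M →* G} {S : Sylow 2 G} (h : Hyp ι S)
include h

/-- Passing to a subgroup containing the weak closure. -/
theorem restrict {H : Subgroup G} (hW : ι.range ≤ H) (P : Sylow 2 H) (hP : ∀ i, (⟨sv ι i, hW ⟨vM i, rfl⟩⟩ : H) ∈ (P : Subgroup H))
    (hPS : ∀ x ∈ (P : Subgroup H), (x : G) ∈ (S : Subgroup G))
    (hX : ∀ g : G, Commute (g * ι mT * g⁻¹) (ι mT) → ∃ k ∈ H, k * ι mT * k⁻¹ = g * ι mT * g⁻¹) :
    Hyp (ι.codRestrict H fun x => hW ⟨x, rfl⟩) P where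
  inj a b e := h.inj (congrArg Subtype.val e)
  cen x hx := Subtype.ext (h.cen _ (hPS x hx))
  four_le := by
    rintro _ ⟨i, rfl⟩
    exact hP i
  range_eq := by
    refine map_injective (f := H.subtype) H.subtype_injective ?_
    rw [MonoidHom.map_range, MonoidHom.map_closure]
    refine (MonoidHom.range_eq_map _).trans ?_
    rw [← MonoidHom.range_eq_map]
    show ι.range = _
    rw [h.range_eq]
    congr 1
    ext x
    constructor
    · rintro ⟨g, rfl, hg⟩
      obtain ⟨k, hk, e⟩ := hX g hg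
      exact ⟨⟨k * ι mT * k⁻¹, mul_mem (mul_mem hk (hW ⟨mT, rfl⟩)) (inv_mem hk)⟩,
        ⟨⟨k, hk⟩, rfl, Subtype.ext (show k * ι mT * k⁻¹ * ι mT = ι mT * (k * ι mT * k⁻¹) by rw [e]; exact hg)⟩, e⟩
    · rintro ⟨_, ⟨k, rfl, hk⟩, rfl⟩
      exact ⟨k, rfl, congrArg Subtype.val hk⟩

variable (htop : normalClosure ({ι mT} : Set G) = ⊤)
include htop

theorem centralizer_le_normalizer_sqC {g : G} (hg : Commute g (ι mT)) : g ∈ normalizer (sqC ι : Set G) := by
  obtain ⟨x, q, hq, rfl⟩ := h.centralizer_t htop hg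
  refine mul_mem ?_ (le_normalizer hq)
  exact centralizer_le_normalizer _ (mem_centralizer_iff.2 fun u hu => (h.sqC_commute hu x).eq)

/-- The squares are central. -/
theorem sqC_le_center (IH : Below.{u} (Nat.card G)) : sqC ι ≤ center G := by
  haveI : Fact (Nat.Prime 2) := ⟨Nat.prime_two⟩
  set H := normalizer (sqC ι : Set G) with hH
  by_cases hHtop : H = ⊤
  · haveI : (sqC ι).Normal := normalizer_eq_top_iff.1 hHtop
    refine h.le_center htop _ fun e => ?_
    have : ι mT ∈ sqC ι ⊓ four ι := ⟨e ▸ mem_top _, 1, sv_one ι⟩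
    rw [h.sqC_inf_four, mem_bot] at this
    exact mT_rel.2.1 (h.inj (this.trans (map_one ι).symm))
  exfalso
  have hCH : ∀ g, Commute g (ι mT) → g ∈ H := fun g hg => h.centralizer_le_normalizer_sqC htop hg
  have hNH : nE ι ≤ H := nE_le_normalizer_sqC ι
  have hW : ι.range ≤ H := by
    rintro _ ⟨x, rfl⟩
    exact hCH _ (commute_t ι x)
  have hSH : (S : Subgroup G) ≤ H := (h.S_le_cE.trans (cE_le_nE ι)).trans hNH
  have htH : ι mT ∈ H := hW ⟨mT, rfl⟩
  -- one class of involutions in the normalizer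
  have hconj : ∀ v ∈ H, orderOf v = 2 → ∃ k ∈ H, k * ι mT * k⁻¹ = v := by
    intro v hv hvo
    obtain ⟨k, hk⟩ := CfsgLib.Invol.exists_conj_le_sylow (Q := zpowers (⟨v, hv⟩ : H))
      (IsPGroup.of_card (n := 1) (by rw [Nat.card_zpowers, Subgroup.orderOf_mk, hvo, pow_one])) (S.subtype hSH)
    have hkv : (k : G) * v * (k : G)⁻¹ ∈ (S : Subgroup G) := hk _ (mem_zpowers _)
    rw [h.S_eq htop] at hkv
    obtain ⟨i, hi⟩ := hkv
    have hi0 : i ≠ 0 := by
      rintro rfl
      rw [sv_zero, eq_comm, mul_inv_eq_one, mul_eq_left] at hi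
      rw [hi, orderOf_one] at hvo
      norm_num at hvo
    obtain ⟨n, hn, hnt⟩ := h.exists_normalizer_to hi0
    refine ⟨(k : G)⁻¹ * n, H.mul_mem (H.inv_mem k.2) (hNH hn), ?_⟩
    rw [show (k : G)⁻¹ * n * ι mT * ((k : G)⁻¹ * n)⁻¹ = (k : G)⁻¹ * (n * ι mT * n⁻¹) * k by group, hnt, hi]
    group
  have hto : ∀ g : G, orderOf (g * ι mT * g⁻¹) = 2 := fun g => invol_conj h.orderOf_t g
  have hfuse : ∀ g : G, g * ι mT * g⁻¹ ∈ H → g ∈ H := by
    intro g hg
    obtain ⟨k, hk, e⟩ := hconj _ hg (hto g)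
    have hc : Commute (k⁻¹ * g) (ι mT) := by
      show k⁻¹ * g * ι mT = ι mT * (k⁻¹ * g)
      calc k⁻¹ * g * ι mT = k⁻¹ * (g * ι mT * g⁻¹) * g := by group
        _ = k⁻¹ * (k * ι mT * k⁻¹) * g := by rw [e]
        _ = ι mT * (k⁻¹ * g) := by group
    have := H.mul_mem hk (hCH _ hc)
    rwa [mul_inv_cancel_left] at this
  have hcrit : SECrit.Crit H (ι mT) := by
    refine ⟨h.orderOf_t, htH, SECrit.odd_index_of_sylow_le S fun s hs => mem_centralizer_singleton_iff.2 (h.cen s hs),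
      hfuse, fun g hc hne c hcc => ?_⟩
    have hgH : g * ι mT * g⁻¹ ∈ H := hCH _ hc.symm
    have hyo : orderOf (ι mT * (g * ι mT * g⁻¹)) = 2 := CfsgLib.Invol.invol_iff.2
      ⟨by
        calc ι mT * (g * ι mT * g⁻¹) * (ι mT * (g * ι mT * g⁻¹))
            = ι mT * ((g * ι mT * g⁻¹) * ι mT) * (g * ι mT * g⁻¹) := by simp only [mul_assoc]
          _ = ι mT * (ι mT * (g * ι mT * g⁻¹)) * (g * ι mT * g⁻¹) := by rw [hc.eq]
          _ = 1 := by
            rw [← mul_assoc (ι mT) (ι mT), invol_mul_self h.orderOf_t, one_mul, invol_mul_self (hto g)], fun e => hne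
        ((eq_inv_of_mul_eq_one_left e).trans (invol_inv (hto g))).symm⟩
    obtain ⟨k, hk, e⟩ := hconj _ (H.mul_mem htH hgH) hyo
    have hcc' := mem_centralizer_singleton_iff.1 hcc
    rw [← e] at hcc'
    have hcomm : Commute (k⁻¹ * c * k) (ι mT) := by
      show k⁻¹ * c * k * ι mT = ι mT * (k⁻¹ * c * k)
      calc k⁻¹ * c * k * ι mT = k⁻¹ * (c * (k * ι mT * k⁻¹)) * k := by group
        _ = k⁻¹ * (k * ι mT * k⁻¹ * c) * k := by rw [hcc']
        _ = ι mT * (k⁻¹ * c * k) := by group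
    have := H.mul_mem (H.mul_mem hk (hCH _ hcomm)) (H.inv_mem hk)
    rwa [show k * (k⁻¹ * c * k) * k⁻¹ = c by group] at this
  -- the theorem in the normalizer
  have hX : ∀ g : G, Commute (g * ι mT * g⁻¹) (ι mT) → ∃ k ∈ H, k * ι mT * k⁻¹ = g * ι mT * g⁻¹ :=
    fun g hg => hconj _ (hCH _ hg) (hto g)
  have hH' := h.restrict hW (S.subtype hSH) (fun i => h.four_le (sv_mem ι i)) (fun x hx => hx) hX
  set ιH : M →* H := ι.codRestrict H fun x => hW ⟨x, rfl⟩ with hιH
  have hlt : Nat.card H < Nat.card G := by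
    refine lt_of_le_of_ne (Subgroup.card_le_card_group H) fun e => hHtop (Subgroup.eq_top_of_card_eq H e)
  obtain ⟨e⟩ := IH H hlt ιH (S.subtype hSH) hH'
  set N : Subgroup H := normalClosure ({ιH mT} : Set H) with hN
  have hNcard : Nat.card N = 175560 := (Nat.card_congr e.toEquiv).trans CfsgLib.Char.J1.card_eq
  haveI : Finite ↥Cfsg.Spor.J1 := CfsgLib.Char.J1.finite_J1
  haveI : IsSimpleGroup N := by
    haveI := CfsgLib.Char.J1.simple_J1
    exact e.isSimpleGroup
  set Q : Subgroup H := (sqC ι).subgroupOf H with hQ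
  haveI hQn : Q.Normal := normal_subgroupOf_of_le_normalizer le_rfl
  have hQN : ∀ q ∈ Q, ∀ m ∈ N, Commute q m := by
    have hle : N ≤ centralizer (Q : Set H) := by
      haveI : (centralizer (Q : Set H)).Normal := Subgroup.normal_centralizer
      refine normalClosure_le_normal (Set.singleton_subset_iff.2 (mem_centralizer_iff.2 fun q hq => ?_))
      exact Subtype.ext (h.sqC_commute (mem_subgroupOf.1 hq) mT).eq
    exact fun q hq m hm => mem_centralizer_iff.1 (hle hm) q hq
  have hQN1 : ∀ q ∈ Q, q ∈ N → q = 1 := by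
    intro q hq hqN
    have hz : (⟨q, hqN⟩ : N) ∈ center N :=
      mem_center_iff.2 fun m => Subtype.ext (hQN q hq m m.2).eq.symm
    rw [CfsgLib.Spor.J1Order.center_eq_bot hNcard, mem_bot] at hz
    exact congrArg Subtype.val hz
  have hNn : N.Normal := normalClosure_normal
  have hmem : ιH mT ∈ N := subset_normalClosure (Set.mem_singleton _)
  have hWN : ∀ x, ιH x ∈ N := by
    intro x
    have hle : Subgroup.closure {y : H | ∃ g : H, y = g * ιH mT * g⁻¹ ∧ y * ιH mT = ιH mT * y} ≤ N := by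
      refine (closure_le _).2 ?_
      intro y hy
      obtain ⟨k, hk, -⟩ := hy
      rw [hk]
      exact hNn.conj_mem _ hmem k
    exact hle (hH'.range_eq ▸ (⟨x, rfl⟩ : ιH x ∈ ιH.range))
  set tN : N := ⟨ιH mT, hWN mT⟩ with htN
  -- the centralizer in the normal closure
  have hC120 : Nat.card (centralizer ({tN} : Set N)) = 120 := by
    rw [← card_M]
    refine (Nat.card_eq_of_bijective (fun x : M => (⟨⟨ιH x, hWN x⟩, mem_centralizer_singleton_iff.2
      (Subtype.ext (Subtype.ext (commute_t ι x).eq))⟩ : centralizer ({tN} : Set N))) ⟨fun a b eq =>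
      h.inj (congrArg (fun z : centralizer ({tN} : Set N) => (((z : N) : H) : G)) eq), fun z => ?_⟩).symm
    have hz : Commute (((z : N) : H) : G) (ι mT) :=
      congrArg (fun u : N => ((u : H) : G)) (mem_centralizer_singleton_iff.1 z.2)
    obtain ⟨x, q, hq, eq⟩ := h.centralizer_t htop hz
    have hqQ : (⟨q, le_normalizer hq⟩ : H) ∈ Q := hq
    have hqe : ((⟨q, le_normalizer hq⟩ : H)) = (ιH x)⁻¹ * (z : N) := Subtype.ext (by
      show q = (ι x)⁻¹ * (((z : N) : H) : G)
      rw [eq, inv_mul_cancel_left])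
    have hq1 := congrArg Subtype.val (hQN1 _ hqQ (hqe ▸ N.mul_mem (N.inv_mem (hWN x)) z.1.2))
    refine ⟨x, Subtype.ext (Subtype.ext (Subtype.ext ?_))⟩
    show ι x = (((z : N) : H) : G)
    rw [eq, show q = 1 from hq1, mul_one]
  -- a two point stabilizer
  obtain ⟨g₀, hg₀⟩ := SetLike.exists_of_lt (lt_top_iff_ne_top.2 hHtop)
  set a : G ⧸ H := ((1 : G) : G ⧸ H) with ha
  set b : G ⧸ H := ((g₀ : G) : G ⧸ H) with hb
  have hab : a ≠ b := fun eq => hg₀.2 (by
    have := QuotientGroup.eq.1 eq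
    rwa [inv_one, one_mul] at this)
  set R₀ : Subgroup G := (Cfsg.pPrimeCore 2 (SECrit.pairStab a b)).map (SECrit.pairStab a b).subtype with hR₀
  set R : Subgroup H := R₀.subgroupOf H with hR
  have hR₀odd : Odd (Nat.card R₀) := ProdFusion.odd_card_OC _
  have hRodd : Odd (Nat.card R) := by
    rw [← card_map_of_injective (f := H.subtype) H.subtype_injective, hR, subgroupOf_map_subtype]
    exact ProdFusion.odd_of_le inf_le_left hR₀odd
  have hQodd : Odd (Nat.card Q) := by
    rw [← card_map_of_injective (f := H.subtype) H.subtype_injective, hQ, subgroupOf_map_subtype]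
    exact ProdFusion.odd_of_le inf_le_left (h.odd_sqC htop)
  set K : Subgroup N := (R ⊔ Q).comap N.subtype with hK
  have hKodd : Odd (Nat.card K) := by
    have h1 : Odd (Nat.card (R ⊔ Q : Subgroup H)) := by
      rw [← (Q.subgroupOf (R ⊔ Q)).index_mul_card, Nat.card_congr (subgroupOfEquivOfLe le_sup_right).toEquiv]
      refine Nat.odd_mul.2 ⟨?_, hQodd⟩
      show Odd (Q.relIndex (R ⊔ Q))
      rw [relIndex_sup_right]
      exact hRodd.of_dvd_nat (relIndex_dvd_card Q R)
    rw [← card_map_of_injective (f := N.subtype) N.subtype_injective, hK, map_comap_eq]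
    exact ProdFusion.odd_of_le inf_le_right h1
  -- it is transitive on the involutions of the normal closure
  have hfix : ∀ v : G, v ∈ H → v • a = a := fun v hv => (SECrit.smul_coe_eq_iff v 1).2 (by simpa using hv)
  have htr : ∀ m : N, ∃ k ∈ K, k * tN * k⁻¹ = m * tN * m⁻¹ := by
    intro m
    set v : G := ((m : H) : G) * ι mT * ((m : H) : G)⁻¹ with hv
    have hvH : v ∈ H := H.mul_mem (H.mul_mem (m : H).2 htH) (H.inv_mem (m : H).2)
    obtain ⟨r, hr, hra, -, hrv⟩ := hcrit.exists_core_conj hab (IsConj.refl (ι mT))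
      (isConj_iff.2 ⟨_, hv.symm⟩) (hfix _ htH) (hfix _ hvH)
    have hrH : (r : G) ∈ H := by simpa using (SECrit.smul_coe_eq_iff (r : G) 1).1 hra
    set rH : H := ⟨r, hrH⟩ with hrH'
    have hrR : rH ∈ R := ⟨r, hr, rfl⟩
    -- split off the part in the squares
    have hc : Commute (((m : H) : G)⁻¹ * r) (ι mT) := by
      show ((m : H) : G)⁻¹ * r * ι mT = ι mT * (((m : H) : G)⁻¹ * r)
      calc ((m : H) : G)⁻¹ * r * ι mT = ((m : H) : G)⁻¹ * ((r : G) * ι mT * (r : G)⁻¹) * r := by group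
        _ = ι mT * (((m : H) : G)⁻¹ * r) := by rw [hrv, hv]; group
    obtain ⟨x, q, hq, eq⟩ := h.centralizer_t htop hc
    set qH : H := ⟨q, le_normalizer hq⟩ with hqH
    have hk : rH * qH⁻¹ = (m : H) * ιH x := by
      refine Subtype.ext ?_
      show (r : G) * q⁻¹ = ((m : H) : G) * ι x
      rw [show (r : G) = ((m : H) : G) * (((m : H) : G)⁻¹ * r) by group, eq]; group
    refine ⟨m * ⟨ιH x, hWN x⟩, ?_, ?_⟩
    · show (m : H) * ιH x ∈ R ⊔ Q
      exact hk ▸ Subgroup.mul_mem _ (mem_sup_left hrR) (mem_sup_right (Q.inv_mem hq))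
    · rw [show m * ⟨ιH x, hWN x⟩ * tN * (m * ⟨ιH x, hWN x⟩)⁻¹ = m * (⟨ιH x, hWN x⟩ * tN * (⟨ιH x, hWN x⟩ : N)⁻¹) * m⁻¹ by
        group]
      congr 2
      refine Subtype.ext (Subtype.ext ?_)
      show ι x * ι mT * (ι x)⁻¹ = ι mT
      rw [(commute_t ι x).eq, mul_inv_cancel_right]
  set C := centralizer ({tN} : Set N) with hC
  haveI : MulAction.IsPretransitive K (N ⧸ C) := by
    have key : ∀ c : N ⧸ C, ∃ k : K, k • ((1 : N) : N ⧸ C) = c := by
      intro c
      obtain ⟨m, rfl⟩ := QuotientGroup.mk_surjective c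
      obtain ⟨k, hk, e'⟩ := htr m
      refine ⟨⟨k, hk⟩, ?_⟩
      show ((k * 1 : N) : N ⧸ C) = _
      rw [mul_one, QuotientGroup.eq, mem_centralizer_singleton_iff]
      calc k⁻¹ * m * tN = k⁻¹ * (m * tN * m⁻¹) * m := by group
        _ = tN * (k⁻¹ * m) := by rw [← e']; group
    refine ⟨fun c d => ?_⟩
    obtain ⟨k, rfl⟩ := key c
    obtain ⟨l, rfl⟩ := key d
    exact ⟨l * k⁻¹, by rw [smul_smul, inv_mul_cancel_right]⟩
  have hdvd : Nat.card (N ⧸ C) ∣ Nat.card K := by
    rw [← MulAction.index_stabilizer_of_transitive K ((1 : N) : N ⧸ C)]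
    exact Subgroup.index_dvd_card _
  have hidx : Nat.card (N ⧸ C) = 1463 := by
    have := C.card_eq_card_quotient_mul_card_subgroup
    rw [hNcard, hC120] at this
    omega
  rw [hidx] at hdvd
  exact false_of_odd_seventy_seven e K hKodd ((by norm_num : (7 : ℕ) ∣ 1463).trans hdvd)
    ((by norm_num : (11 : ℕ) ∣ 1463).trans hdvd)

end Hyp

end CfsgLib.Invol.JOneWeak
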