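import Cfsg.Agent.Lib.Invol.JOneWeak.Basic
import Cfsg.Prelude.Def_TwoFusion

/-!
# Weak closure of type `2 × A₅`: the standard eight is central in the Sylow subgroup

The standard eight is strongly closed, and the normalizer of it is controlled.
-/

set_option autoImplicit false
set_option linter.style.haveILetI false
set_option linter.unusedVariables false

namespace CfsgLib.Invol.JOneWeak

open Subgroup CfsgLib.Invol.JTwo.Icosa CfsgLib.Spor.J1Type

universe u

variable {G : Type u} [Group G]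

/-- The centralizer of the standard eight. -/
abbrev cE (ι : M →* G) : Subgroup G := centralizer (four ι : Set G)

/-- The normalizer of the standard eight. -/
abbrev nE (ι : M →* G) : Subgroup G := normalizer (four ι : Set G)

theorem mem_cE {ι : M →* G} {c : G} : c ∈ cE ι ↔ ∀ i, c * sv ι i = sv ι i * c := by
  refine ⟨fun hc i => (mem_centralizer_iff.1 hc _ (sv_mem ι i)).symm, fun hc => mem_centralizer_iff.2 ?_⟩
  rintro _ ⟨i, rfl⟩
  exact (hc i).symm

theorem cE_le_nE (ι : M →* G) : cE ι ≤ nE ι := centralizer_le_normalizer _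

theorem conj_mem_cE {ι : M →* G} {n c : G} (hn : n ∈ nE ι) (hc : c ∈ cE ι) : n * c * n⁻¹ ∈ cE ι := by
  refine mem_cE.2 fun i => ?_
  obtain ⟨j, hj⟩ := Hyp.conj_four (inv_mem hn) i
  rw [inv_inv] at hj
  calc n * c * n⁻¹ * sv ι i = n * (c * (n⁻¹ * sv ι i * n)) * n⁻¹ := by group
    _ = n * ((n⁻¹ * sv ι i * n) * c) * n⁻¹ := by rw [hj, mem_cE.1 hc j]
    _ = sv ι i * (n * c * n⁻¹) := by group

namespace Hyp

variable {ι : M →* G} {S : Sylow 2 G} (h : Hyp ι S)
include h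

theorem commute_cE_t {c : G} (hc : c ∈ cE ι) : Commute c (ι mT) := by
  have := mem_cE.1 hc 1
  rwa [sv_one] at this

variable [Finite G]

/-- The action on the standard eight of its normalizer in the centralizer of the involution. -/
theorem exists_lin {g : G} (hn : g ∈ nE ι) (hg : Commute g (ι mT)) :
    ∃ p q : Fin 8, p.1 % 2 = 0 ∧ q.1 % 2 = 0 ∧ p ≠ 0 ∧ q ≠ 0 ∧ p ≠ q ∧
      ∀ i, g * sv ι i * g⁻¹ = sv ι (lin0 p q i) := by
  obtain ⟨p, hp⟩ := conj_four hn 2
  obtain ⟨q, hq⟩ := conj_four hn 4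
  have heven : ∀ i j : Fin 8, i.1 % 2 = 0 → g * sv ι i * g⁻¹ = sv ι j → j.1 % 2 = 0 := by
    intro i j hi e
    obtain ⟨a, b, hab⟩ := even_comm i hi
    obtain ⟨a', ha'⟩ := h.conj_mem_range hg ⟨a, rfl⟩
    obtain ⟨b', hb'⟩ := h.conj_mem_range hg ⟨b, rfl⟩
    refine even_of_fst j ?_
    rw [show vM j = a' * b' * a'⁻¹ * b'⁻¹ from h.inj ?_, comm_fst]
    show sv ι j = _
    rw [← e, map_mul, map_mul, map_mul, map_inv, map_inv, ha', hb', sv, hab, map_mul, map_mul, map_mul,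
      map_inv, map_inv]
    group
  have hne : ∀ i j : Fin 8, i ≠ 0 → g * sv ι i * g⁻¹ = sv ι j → j ≠ 0 := by
    intro i j hi e hj
    rw [hj, sv_zero, mul_inv_eq_one, mul_eq_left] at e
    exact hi (h.sv_eq_one e)
  refine ⟨p, q, heven 2 p (by decide) hp, heven 4 q (by decide) hq, hne 2 p (by decide) hp,
    hne 4 q (by decide) hq, fun e => ?_, fun i => ?_⟩
  · rw [← e, ← hp] at hq
    exact absurd (h.sv_injective (mul_left_cancel (mul_right_cancel hq))) (by decide)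
  · have h1 : g * sv ι 1 * g⁻¹ = sv ι 1 := by rw [sv_one, hg.eq, mul_inv_cancel_right]
    have h0 : g * sv ι 0 * g⁻¹ = sv ι 0 := by rw [sv_zero, mul_one, mul_inv_cancel]
    have key : ∀ (c : Bool) (k k' : Fin 8), g * sv ι k * g⁻¹ = sv ι k' →
        g * sv ι (if c then k else 0) * g⁻¹ = sv ι (if c then k' else 0) := by
      intro c k k' e
      cases c <;> simp [e, h0]
    have k1 := key (decide (i.1 % 2 = 1)) 1 1 h1
    have k2 := key (decide (i.1 / 2 % 2 = 1)) 2 p hp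
    have k3 := key (decide (i.1 / 4 = 1)) 4 q hq
    simp only [decide_eq_true_eq] at k1 k2 k3
    conv_lhs => rw [← split_index i]
    rw [← sv_mul, ← sv_mul, lin0, ← sv_mul, ← sv_mul]
    conv_rhs => rw [← k1, ← k2, ← k3]
    group

/-- The Sylow subgroup centralizes the standard eight. -/
theorem S_le_cE : (S : Subgroup G) ≤ cE ι := by
  intro s hs
  obtain ⟨p, q, hp, hq, hp0, hq0, hpq, hf⟩ := h.exists_lin (h.S_le_normalizer hs) (h.cen s hs)
  rcases lin0_cases p q hp hq hp0 hq0 hpq with h3 | ⟨a, ha0, -, haf, htv⟩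
  · have h3' : s ^ 3 ∈ cE ι := mem_cE.2 fun i => by
      have e : s ^ 3 * sv ι i * (s ^ 3)⁻¹ = sv ι i := by
        rw [show s ^ 3 * sv ι i * (s ^ 3)⁻¹ = s * (s * (s * sv ι i * s⁻¹) * s⁻¹) * s⁻¹ by
          rw [pow_succ, pow_two]; group,
          hf, hf, hf, h3]
      exact mul_inv_eq_iff_eq_mul.1 e
    obtain ⟨k, hk⟩ := S.2.exists_card_eq
    have hord : orderOf s ∣ 2 ^ k := hk ▸ Subgroup.orderOf_dvd_natCard _ hs
    have hcop : (3 : ℕ).Coprime (orderOf s) :=
      Nat.Coprime.coprime_dvd_right hord (Nat.Coprime.pow_right k (by norm_num))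
    obtain ⟨m, hm⟩ := exists_pow_eq_self_of_coprime hcop
    rw [← hm]
    exact pow_mem h3' m
  · obtain ⟨n, hn, hnt⟩ := h.exists_normalizer_to ha0
    set s' := n⁻¹ * s * n with hs'
    have hs'N : s' ∈ nE ι := mul_mem (mul_mem (inv_mem hn) (h.S_le_normalizer hs)) hn
    have hsa : s * sv ι a = sv ι a * s := mul_inv_eq_iff_eq_mul.1 ((hf a).trans (by rw [haf]))
    have hs'c : Commute s' (ι mT) := by
      show s' * ι mT = ι mT * s'
      calc s' * ι mT = n⁻¹ * (s * (n * ι mT * n⁻¹)) * n := by rw [hs']; group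
        _ = n⁻¹ * ((n * ι mT * n⁻¹) * s) * n := by rw [hnt, hsa]
        _ = ι mT * s' := by rw [hs']; group
    obtain ⟨p', q', hp', hq', -, -, -, hf'⟩ := h.exists_lin hs'N hs'c
    have hfix : ∀ i : Fin 8, i.1 % 2 = 0 → s' * sv ι i * s'⁻¹ = sv ι i := by
      intro i hi
      obtain ⟨j, hj⟩ := conj_four hn i
      have hy : n * (sv ι i * (s' * sv ι i * s'⁻¹)) * n⁻¹ = sv ι (vAdd j (lin0 p q j)) := by
        rw [← sv_mul, ← hf j, ← hj, hs']; group
      have he : (lin0 p' q' i).1 % 2 = 0 := by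
        obtain ⟨a', b', hab⟩ := even_comm i hi
        obtain ⟨a'', ha''⟩ := h.conj_mem_range hs'c ⟨a', rfl⟩
        obtain ⟨b'', hb''⟩ := h.conj_mem_range hs'c ⟨b', rfl⟩
        refine even_of_fst _ ?_
        rw [show vM (lin0 p' q' i) = a'' * b'' * a''⁻¹ * b''⁻¹ from h.inj ?_, comm_fst]
        show sv ι _ = _
        rw [← hf' i, map_mul, map_mul, map_mul, map_inv, map_inv, ha'', hb'', sv, hab, map_mul, map_mul,
          map_mul, map_inv, map_inv]
        group
      rw [hf' i, sv_mul] at hy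
      rcases htv j with e | e
      · rw [e, sv_zero, mul_inv_eq_one, mul_eq_left] at hy
        rw [hf' i, vAdd_eq_zero _ _ (h.sv_eq_one hy)]
      · rw [e, ← hnt, ← sv_one ι] at hy
        have h1 := h.sv_injective (mul_left_cancel (mul_right_cancel hy))
        exact absurd (h1 ▸ vAdd_even _ _ hi he) (by decide)
    have hall : s' ∈ cE ι := by
      refine mem_cE.2 fun i => mul_inv_eq_iff_eq_mul.1 ?_
      have hp2 : p' = 2 := h.sv_injective (by
        have := (hf' 2).symm.trans (hfix 2 (by decide))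
        rwa [show lin0 p' q' 2 = p' by simp [lin0, vAdd_zero]] at this)
      have hq4 : q' = 4 := h.sv_injective (by
        have := (hf' 4).symm.trans (hfix 4 (by decide))
        rwa [show lin0 p' q' 4 = q' by simp [lin0, vAdd_zero]] at this)
      rw [hf' i, hp2, hq4, lin0, split_index]
    have := conj_mem_cE hn hall
    rwa [hs', show n * (n⁻¹ * s * n) * n⁻¹ = s by group] at this

theorem four_le_cE : four ι ≤ cE ι := h.four_le.trans h.S_le_cE

/-- A conjugate of an element of the standard eight lying in the Sylow subgroup lies in the eight. -/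
theorem conj_mem_four {i : Fin 8} {g : G} (hg : g * sv ι i * g⁻¹ ∈ (S : Subgroup G)) :
    g * sv ι i * g⁻¹ ∈ four ι := by
  by_cases hi : i = 0
  · simp [hi, sv_zero]
  obtain ⟨n, -, hn⟩ := h.exists_normalizer_to hi
  have e : g * sv ι i * g⁻¹ = g * n * ι mT * (g * n)⁻¹ := by rw [← hn]; group
  refine h.mem_four_of_mem hg ?_
  rw [e] at hg ⊢
  exact h.mem_range_of_conj (h.cen _ hg)

theorem stronglyClosed_four : Cfsg.IsStronglyClosed (four ι) (S : Subgroup G) :=
  ⟨h.four_le, by rintro _ ⟨i, rfl⟩ g hg; exact h.conj_mem_four hg⟩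

/-- Moving the frame by an element of the normalizer of the standard eight. -/
theorem rebase {n : G} (hn : n ∈ nE ι) : Hyp ((MulAut.conj n).toMonoidHom.comp ι) S where
  inj := (MulAut.conj n).injective.comp h.inj
  cen s hs := by
    obtain ⟨j, hj⟩ := conj_four hn 1
    rw [sv_one] at hj
    show s * (n * ι mT * n⁻¹) = n * ι mT * n⁻¹ * s
    rw [hj]
    exact mem_cE.1 (h.S_le_cE hs) j
  four_le := by
    rintro _ ⟨i, rfl⟩
    obtain ⟨j, hj⟩ := conj_four hn i
    refine h.four_le ?_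
    rw [show sv ((MulAut.conj n).toMonoidHom.comp ι) i = n * sv ι i * n⁻¹ from rfl, hj]
    exact sv_mem ι j
  range_eq := by
    rw [MonoidHom.range_comp, h.range_eq, MonoidHom.map_closure]
    congr 1
    ext x
    show (∃ y, (∃ g : G, y = g * ι mT * g⁻¹ ∧ y * ι mT = ι mT * y) ∧ n * y * n⁻¹ = x) ↔
      ∃ g : G, x = g * (n * ι mT * n⁻¹) * g⁻¹ ∧ x * (n * ι mT * n⁻¹) = n * ι mT * n⁻¹ * x
    constructor
    · rintro ⟨y, ⟨g, rfl, hg⟩, rfl⟩
      refine ⟨n * g * n⁻¹, by group, ?_⟩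
      calc n * (g * ι mT * g⁻¹) * n⁻¹ * (n * ι mT * n⁻¹) = n * (g * ι mT * g⁻¹ * ι mT) * n⁻¹ := by group
        _ = n * (ι mT * (g * ι mT * g⁻¹)) * n⁻¹ := by rw [hg]
        _ = n * ι mT * n⁻¹ * (n * (g * ι mT * g⁻¹) * n⁻¹) := by group
    · rintro ⟨g, rfl, hg⟩
      refine ⟨n⁻¹ * g * n * ι mT * (n⁻¹ * g * n)⁻¹, ⟨_, rfl, ?_⟩, by group⟩
      calc n⁻¹ * g * n * ι mT * (n⁻¹ * g * n)⁻¹ * ι mT
          = n⁻¹ * (g * (n * ι mT * n⁻¹) * g⁻¹ * (n * ι mT * n⁻¹)) * n := by group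
        _ = n⁻¹ * (n * ι mT * n⁻¹ * (g * (n * ι mT * n⁻¹) * g⁻¹)) * n := by rw [hg]
        _ = ι mT * (n⁻¹ * g * n * ι mT * (n⁻¹ * g * n)⁻¹) := by group

theorem four_rebase {n : G} (hn : n ∈ nE ι) : four ((MulAut.conj n).toMonoidHom.comp ι) = four ι := by
  refine eq_of_le_of_card_ge ?_ (by rw [h.card_four, (h.rebase hn).card_four])
  rintro _ ⟨i, rfl⟩
  obtain ⟨j, hj⟩ := conj_four hn i
  exact ⟨j, hj.symm⟩

open Classical in
/-- A subgroup of the normalizer containing the elements of order three is transitive. -/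
theorem exists_mem_conj (K : Subgroup G) (hK : K ≤ nE ι)
    (hb : ∀ n ∈ nE ι, n * ι (mA b0) * n⁻¹ ∈ K) {i : Fin 8} (hi : i ≠ 0) :
    ∃ k ∈ K, k * ι mT * k⁻¹ = sv ι i := by
  by_contra hno
  set R : G → Prop := fun x => ∃ k ∈ K, k * ι mT * k⁻¹ = x with hR
  set s : Finset (Fin 8) := Finset.univ.filter fun j => R (sv ι j) with hs
  have key : ∀ n ∈ nE ι, s.card % 3 = if R (n * ι mT * n⁻¹) then 1 else 0 := by
    intro n hn
    choose π hπ using fun j => conj_four hn j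
    have hπi : Function.Injective π := fun a b e => h.sv_injective (by
      have := (hπ a).trans (e ▸ (hπ b).symm)
      exact mul_left_cancel (mul_right_cancel this))
    set s' : Finset (Fin 8) := Finset.univ.filter fun j => π j ∈ s with hs'
    have hcard : s'.card = s.card :=
      Finset.card_bij (fun j _ => π j) (fun j hj => (Finset.mem_filter.1 hj).2) (fun a _ b _ e => hπi e)
        fun j hj => by
          obtain ⟨a, ha⟩ := (Finite.injective_iff_bijective.1 hπi).2 j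
          exact ⟨a, Finset.mem_filter.2 ⟨Finset.mem_univ _, ha ▸ hj⟩, ha⟩
    have h0 : (0 : Fin 8) ∉ s' := by
      intro e
      have e2 := (Finset.mem_filter.1 (Finset.mem_filter.1 e).2).2
      obtain ⟨k, -, hk⟩ := e2
      rw [← hπ 0, sv_zero, mul_one, mul_inv_cancel, mul_inv_eq_one, mul_eq_left] at hk
      exact mT_rel.2.1 (h.inj (hk.trans (map_one ι).symm))
    have hinv : ∀ j ∈ s', bOp j ∈ s' := by
      intro j hj
      obtain ⟨k, hk, e⟩ := (Finset.mem_filter.1 (Finset.mem_filter.1 hj).2).2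
      refine Finset.mem_filter.2 ⟨Finset.mem_univ _, Finset.mem_filter.2 ⟨Finset.mem_univ _,
        n * ι (mA b0) * n⁻¹ * k, mul_mem (hb n hn) hk, ?_⟩⟩
      rw [← hπ (bOp j), ← b_conj ι j, show n * ι (mA b0) * n⁻¹ * k * ι mT * (n * ι (mA b0) * n⁻¹ * k)⁻¹ =
        n * ι (mA b0) * n⁻¹ * (k * ι mT * k⁻¹) * (n * ι (mA b0) * n⁻¹)⁻¹ by group, e, ← hπ j]
      group
    have hiff : (1 : Fin 8) ∈ s' ↔ R (n * ι mT * n⁻¹) := by
      simp only [hs', hs, Finset.mem_filter, Finset.mem_univ, true_and]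
      rw [← hπ 1, sv_one]
    rw [← hcard, orbit_card s' h0 hinv]
    exact if_congr hiff rfl rfl
  have h1 := key 1 (one_mem _)
  rw [if_pos (show R (1 * ι mT * 1⁻¹) from ⟨1, one_mem _, rfl⟩)] at h1
  obtain ⟨n, hn, hnt⟩ := h.exists_normalizer_to hi
  have h2 := key n hn
  rw [hnt, if_neg (show ¬ R (sv ι i) from hno)] at h2
  omega

/-- A subgroup of the normalizer containing the elements of order three and the stabilizer of the
involution is everything. -/
theorem nE_le (K : Subgroup G) (hK : K ≤ nE ι) (hb : ∀ n ∈ nE ι, n * ι (mA b0) * n⁻¹ ∈ K)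
    (hC : ∀ g ∈ nE ι, Commute g (ι mT) → g ∈ K) : nE ι ≤ K := by
  intro n hn
  obtain ⟨j, hj⟩ := conj_four hn 1
  rw [sv_one] at hj
  obtain ⟨k, hk, e⟩ := h.exists_mem_conj K hK hb (i := j) (by
    rintro rfl
    rw [sv_zero, mul_inv_eq_one, mul_eq_left] at hj
    exact mT_rel.2.1 (h.inj (hj.trans (map_one ι).symm)))
  have hkn : Commute (k⁻¹ * n) (ι mT) := by
    show k⁻¹ * n * ι mT = ι mT * (k⁻¹ * n)
    calc k⁻¹ * n * ι mT = k⁻¹ * (n * ι mT * n⁻¹) * n := by group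
      _ = k⁻¹ * (k * ι mT * k⁻¹) * n := by rw [hj, e]
      _ = ι mT * (k⁻¹ * n) := by group
  have := K.mul_mem hk (hC _ ((nE ι).mul_mem ((nE ι).inv_mem (hK hk)) hn) hkn)
  rwa [mul_inv_cancel_left] at this

/-- The centralizer of the standard eight is the eight times the centralizer of the weak closure. -/
theorem cE_decomp {c : G} (hc : c ∈ cE ι) :
    ∃ i d, c = sv ι i * d ∧ ∀ x, Commute d (ι x) := by
  have hct := h.commute_cE_t hc
  obtain ⟨x, hx⟩ := h.conj_mem_range hct (⟨mA b0, rfl⟩ : ι (mA b0) ∈ ι.range)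
  have hfix : ∀ i, c * sv ι i * c⁻¹ = sv ι i := fun i => mul_inv_eq_iff_eq_mul.2 (mem_cE.1 hc i)
  have hbc : ∀ i, x * vM i * x⁻¹ = vM (bOp i) := fun i => h.inj (by
    rw [map_mul, map_mul, map_inv, hx]
    show _ * sv ι i * _ = sv ι (bOp i)
    conv_lhs => rw [← hfix i]
    rw [show c * ι (mA b0) * c⁻¹ * (c * sv ι i * c⁻¹) * (c * ι (mA b0) * c⁻¹)⁻¹ =
      c * (ι (mA b0) * sv ι i * (ι (mA b0))⁻¹) * c⁻¹ by group, b_conj, hfix])
  obtain ⟨i, hi⟩ := b_candidates x (by simpa [vM_vals, bOp] using hbc 2)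
    (by simpa [vM_vals, bOp] using hbc 4) (h.inj (by
      rw [map_mul, map_mul, map_one, hx,
        show c * ι (mA b0) * c⁻¹ * (c * ι (mA b0) * c⁻¹) * (c * ι (mA b0) * c⁻¹) =
          c * (ι (mA b0 * mA b0 * mA b0)) * c⁻¹ by rw [map_mul, map_mul]; group,
        b_order, map_one, mul_one, mul_inv_cancel]))
  set d := (sv ι i)⁻¹ * c with hd
  refine ⟨i, d, (mul_inv_cancel_left _ _).symm, ?_⟩
  have hdE : d ∈ cE ι := mul_mem (inv_mem (h.four_le_cE (sv_mem ι i))) hc
  set φ : M →* G := (MulAut.conj d).toMonoidHom.comp ι with hφ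
  have hφt : φ mT = ι mT := mul_inv_eq_iff_eq_mul.2 (h.commute_cE_t hdE).eq
  have hφb : φ (mA b0) = ι (mA b0) := by
    show d * ι (mA b0) * d⁻¹ = _
    rw [hd, show (sv ι i)⁻¹ * c * ι (mA b0) * ((sv ι i)⁻¹ * c)⁻¹ =
      (sv ι i)⁻¹ * (c * ι (mA b0) * c⁻¹) * sv ι i by group, ← hx, hi, map_mul, map_mul, map_inv]
    show (sv ι i)⁻¹ * (sv ι i * _ * (sv ι i)⁻¹) * sv ι i = _
    group
  have hφr : φ (mA rA) = ι (mA rA) := by
    have := mul_inv_eq_iff_eq_mul.2 (mem_cE.1 hdE 2)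
    rw [sv, vM_vals.2.2.1] at this
    exact this
  obtain ⟨a, ha⟩ := h.conj_mem_range (h.commute_cE_t hdE) (⟨mA a0, rfl⟩ : ι (mA a0) ∈ ι.range)
  have ha' : ι a = φ (mA a0) := ha
  have hφi : Function.Injective φ := (MulAut.conj d).injective.comp h.inj
  have hφa : φ (mA a0) = ι (mA a0) := by
    rw [← ha']
    refine congrArg ι (a_unique a (h.inj ?_) (fun e => ?_) (h.inj ?_) (h.inj ?_))
    · rw [map_mul, ha', ← map_mul, ← map_mul, gens_rel.1, map_one, map_one, map_one]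
    · rw [e, map_one, ← map_one φ] at ha'
      exact gens_rel.2.2.2.1 (mA_injective ((hφi ha').symm.trans (map_one mA).symm))
    · rw [map_pow, map_mul, ha', ← hφb, ← map_mul, ← map_pow, ← map_mul mA, ← map_pow, gens_rel.2.2.1,
        map_one, map_one, map_one]
    · simp only [map_mul, map_inv, ha']
      rw [← hφb, ← hφr]
      simp only [← map_mul, ← map_inv]
      rfl
  intro y
  exact mul_inv_eq_iff_eq_mul.1 (DFunLike.congr_fun (hom_ext_gens hφt hφa hφb) y)

theorem relIndex_cE_odd : ¬ 2 ∣ (cE ι).relIndex (nE ι) := by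
  haveI : Fact (Nat.Prime 2) := ⟨Nat.prime_two⟩
  exact fun h2 => S.not_dvd_index
    ((h2.trans (relIndex_dvd_index_of_le (cE_le_nE ι))).trans (index_dvd_of_le h.S_le_cE))

/-- The stabilizer of the involution in the normalizer. -/
theorem exists_pow_mul_mem {g : G} (hn : g ∈ nE ι) (hg : Commute g (ι mT)) :
    ∃ l : ℕ, ι (mA b0) ^ l * g ∈ cE ι := by
  obtain ⟨p, q, hp, hq, hp0, hq0, hpq, hf⟩ := h.exists_lin hn hg
  obtain ⟨l, hl⟩ := bOp_to_two p hp hp0
  set g' := ι (mA b0) ^ l.1 * g with hg'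
  have hg'n : g' ∈ nE ι := mul_mem (pow_mem h.b_mem_normalizer _) hn
  have hg'c : Commute g' (ι mT) := ((commute_t ι _).pow_left _).mul_left hg
  obtain ⟨p', q', -, hq', -, hq0', hpq', hf'⟩ := h.exists_lin hg'n hg'c
  have hpow : ∀ (m : ℕ) (i : Fin 8), ι (mA b0) ^ m * sv ι i * (ι (mA b0) ^ m)⁻¹ = sv ι (bOp^[m] i) := by
    intro m
    induction m with
    | zero => intro i; simp
    | succ m ih =>
      intro i
      rw [Function.iterate_succ_apply', ← b_conj, ← ih i, pow_succ']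
      group
  have hp2 : p' = 2 := h.sv_injective (by
    have e1 : g' * sv ι 2 * g'⁻¹ = sv ι 2 := by
      rw [hg', show ι (mA b0) ^ l.1 * g * sv ι 2 * (ι (mA b0) ^ l.1 * g)⁻¹ =
        ι (mA b0) ^ l.1 * (g * sv ι 2 * g⁻¹) * (ι (mA b0) ^ l.1)⁻¹ by group, hf,
        show lin0 p q 2 = p by simp [lin0, vAdd_zero], hpow, hl]
    rwa [hf', show lin0 p' q' 2 = p' by simp [lin0, vAdd_zero]] at e1)
  have hsq : g' * g' ∈ cE ι := mem_cE.2 fun i => mul_inv_eq_iff_eq_mul.1 (by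
    rw [show g' * g' * sv ι i * (g' * g')⁻¹ = g' * (g' * sv ι i * g'⁻¹) * g'⁻¹ by group, hf', hf', hp2,
      lin0_two_invol q' hq' hq0' (hp2 ▸ hpq'.symm)])
  refine ⟨l.1, ?_⟩
  haveI : ((cE ι).subgroupOf (nE ι)).Normal :=
    ⟨fun c hc k => mem_subgroupOf.2 (conj_mem_cE k.2 (mem_subgroupOf.1 hc))⟩
  have hidx : g' ^ (cE ι).relIndex (nE ι) ∈ cE ι := by
    have := ((cE ι).subgroupOf (nE ι)).pow_index_mem (⟨g', hg'n⟩ : nE ι)
    rwa [mem_subgroupOf, SubmonoidClass.coe_pow] at this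
  obtain ⟨k, hk⟩ : Odd ((cE ι).relIndex (nE ι)) := Nat.not_even_iff_odd.1 fun he =>
    h.relIndex_cE_odd (even_iff_two_dvd.1 he)
  rw [hk, pow_succ', pow_mul, pow_two] at hidx
  exact (mul_mem_cancel_right (pow_mem hsq k)).1 hidx

end Hyp

end CfsgLib.Invol.JOneWeak
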