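import Cfsg.Agent.Lib.Spor.J1Type.Setup

/-!
# Weak closure of type `2 × A₅`: facts about the concrete group
-/

set_option autoImplicit false
set_option maxRecDepth 100000
set_option synthInstance.maxSize 4096

namespace CfsgLib.Invol.JOneWeak

open CfsgLib.Invol.JTwo.Icosa CfsgLib.Spor.J1Type

/-- The linear map on the eight indices fixing the first and with the given images of the others. -/
def lin0 (p q : Fin 8) (i : Fin 8) : Fin 8 :=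
  vAdd (if i.1 % 2 = 1 then 1 else 0) (vAdd (if i.1 / 2 % 2 = 1 then p else 0) (if i.1 / 4 = 1 then q else 0))

theorem split_index : ∀ i : Fin 8, vAdd (if i.1 % 2 = 1 then 1 else 0)
    (vAdd (if i.1 / 2 % 2 = 1 then 2 else 0) (if i.1 / 4 = 1 then 4 else 0)) = i := by decide +kernel

theorem lin0_cases : ∀ p q : Fin 8, p.1 % 2 = 0 → q.1 % 2 = 0 → p ≠ 0 → q ≠ 0 → p ≠ q →
    (∀ i, lin0 p q (lin0 p q (lin0 p q i)) = i) ∨
      ∃ a : Fin 8, a ≠ 0 ∧ a.1 % 2 = 0 ∧ lin0 p q a = a ∧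
        ∀ j, vAdd j (lin0 p q j) = 0 ∨ vAdd j (lin0 p q j) = a := by decide +kernel

theorem lin0_two_invol : ∀ q : Fin 8, q.1 % 2 = 0 → q ≠ 0 → q ≠ 2 →
    ∀ i, lin0 2 q (lin0 2 q i) = i := by decide +kernel

theorem bOp_to_two : ∀ a : Fin 8, a.1 % 2 = 0 → a ≠ 0 → ∃ l : Fin 3, bOp^[l.1] a = 2 := by decide +kernel

theorem bOp_one : bOp 1 = 1 ∧ bOp 0 = 0 := by decide +kernel

theorem orbit_card : ∀ s : Finset (Fin 8), 0 ∉ s → (∀ i ∈ s, bOp i ∈ s) →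
    s.card % 3 = if (1 : Fin 8) ∈ s then 1 else 0 := by decide +kernel

theorem full_of_odd : ∀ s : Finset (Fin 8), 0 ∉ s → 1 ∈ s → (∃ i ∈ s, i ≠ 1) →
    (∀ i ∈ s, bOp i ∈ s) → s.card % 2 = 1 → ∀ i : Fin 8, i ≠ 0 → i ∈ s := by decide +kernel

theorem span_of_two : ∀ s : Finset (Fin 8), 0 ∉ s → 1 ∈ s → (∃ i ∈ s, i ≠ 1) →
    (∀ i ∈ s, bOp i ∈ s) → ∀ i : Fin 8, i = 0 ∨ i ∈ s ∨ ∃ a ∈ s, ∃ b ∈ s, i = vAdd a b := by
  decide +kernel

theorem even_comm : ∀ i : Fin 8, i.1 % 2 = 0 → ∃ p q : M, vM i = p * q * p⁻¹ * q⁻¹ := by decide +kernel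

theorem comm_fst (p q : M) : (p * q * p⁻¹ * q⁻¹).1 = 1 := by
  simp [Prod.fst_mul, mul_comm, mul_left_comm]

theorem even_of_fst : ∀ i : Fin 8, (vM i).1 = 1 → i.1 % 2 = 0 := by decide +kernel

theorem vAdd_self : ∀ i : Fin 8, vAdd i i = 0 := by decide +kernel

theorem vAdd_zero : ∀ i : Fin 8, vAdd 0 i = i ∧ vAdd i 0 = i := by decide +kernel

theorem vAdd_comm : ∀ i j : Fin 8, vAdd i j = vAdd j i := by decide +kernel

theorem vAdd_eq_zero : ∀ i j : Fin 8, vAdd i j = 0 → j = i := by decide +kernel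

theorem vAdd_even : ∀ i j : Fin 8, i.1 % 2 = 0 → j.1 % 2 = 0 → (vAdd i j).1 % 2 = 0 := by decide +kernel

theorem central_index : ∀ i : Fin 8, (∀ x : M, vM i * x = x * vM i) → i = 0 ∨ i = 1 := by decide +kernel

theorem invol_to_four : ∀ x : M, x * x = 1 → x ≠ 1 → ∃ c : M, ∃ i : Fin 8, i ≠ 0 ∧ c * x * c⁻¹ = vM i := by
  decide +kernel

theorem exists_invol_comm : ∀ x : M, x ≠ 1 → x = mT ∨ ∃ y : M,
    (x * y * x⁻¹ * y⁻¹ * (x * y * x⁻¹ * y⁻¹) = 1 ∧ x * y * x⁻¹ * y⁻¹ ≠ 1) ∨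
    (x * (y * x * y⁻¹) * (x * (y * x * y⁻¹)) = 1 ∧ x * (y * x * y⁻¹) ≠ 1) ∨
    (x * x * (y * x * y⁻¹) * (x * x * (y * x * y⁻¹)) = 1 ∧ x * x * (y * x * y⁻¹) ≠ 1) := by decide +kernel

theorem b_candidates : ∀ x : M, x * mA rA * x⁻¹ = mA sA → x * mA sA * x⁻¹ = mA (rA * sA) →
    x * x * x = 1 → ∃ i, x = vM i * mA b0 * (vM i)⁻¹ := by decide +kernel

theorem a_unique : ∀ a : M, a * a = 1 → a ≠ 1 → (a * mA b0) ^ 5 = 1 →
    (mA b0)⁻¹ * a * mA b0 * a * (mA b0)⁻¹ * a * mA b0 = mA rA → a = mA a0 := by decide +kernel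

theorem gen_words : ∀ p : A5, ∃ k : Fin 5, ∃ u : Fin 2, ∃ v : Fin 2, ∃ l : Fin 3,
    p = (b0⁻¹ * a0 * b0 * a0 * b0⁻¹) ^ k.1 * (rA ^ u.1 * sA ^ v.1 * b0 ^ l.1) := by decide +kernel

theorem b_order : mA b0 * mA b0 * mA b0 = 1 := by decide +kernel

theorem fix_b : ∀ i : Fin 8, bOp i = i → i = 0 ∨ i = 1 := by decide +kernel

/-- A homomorphism on the concrete group is determined on the generators. -/
theorem hom_ext_gens {H : Type*} [Group H] {φ ψ : M →* H} (ht : φ mT = ψ mT) (ha : φ (mA a0) = ψ (mA a0))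
    (hb : φ (mA b0) = ψ (mA b0)) : φ = ψ := by
  refine MonoidHom.ext fun x => ?_
  have hA : ∀ p : A5, φ (mA p) = ψ (mA p) := fun p => by
    obtain ⟨k, u, v, l, rfl⟩ := gen_words p
    simp only [rA, sA, map_mul, map_pow, map_inv, ha, hb]
  obtain ⟨p, rfl | rfl⟩ := mem_cases x
  · exact hA p
  · rw [map_mul, map_mul, ht, hA]

end CfsgLib.Invol.JOneWeak
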