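import Cfsg.Agent.Lib.Invol.JOneWeak.Local
import Cfsg.Agent.Lib.Invol.ZStar
import Cfsg.Agent.Lib.ProdFusion.Basic

/-!
# Weak closure of type `2 × A₅`: normal subgroups missing the involution centralize it
-/

set_option autoImplicit false
set_option linter.style.haveILetI false

namespace CfsgLib.Invol.JOneWeak

open Subgroup CfsgLib.Invol.JTwo.Icosa CfsgLib.Spor.J1Type

universe u

variable {G : Type u} [Group G] [Finite G]

namespace Hyp

variable {ι : M →* G} {S : Sylow 2 G} (h : Hyp ι S)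
include h

theorem invol_isConj {x : M} (h2 : x * x = 1) (h1 : x ≠ 1) : IsConj (ι mT) (ι x) := by
  obtain ⟨c, i, hi, e⟩ := invol_to_four x h2 h1
  obtain ⟨n, -, hn⟩ := h.exists_normalizer_to hi
  refine isConj_iff.2 ⟨(ι c)⁻¹ * n, ?_⟩
  rw [show (ι c)⁻¹ * n * ι mT * ((ι c)⁻¹ * n)⁻¹ = (ι c)⁻¹ * (n * ι mT * n⁻¹) * ι c by group, hn, sv, ← e,
    map_mul, map_mul, map_inv]
  group

/-- A normal subgroup missing the involution meets the weak closure trivially. -/
theorem eq_one_of_mem_range (N : Subgroup G) [hN : N.Normal] (htN : ι mT ∉ N) {g : G}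
    (hgN : g ∈ N) (hg : g ∈ ι.range) : g = 1 := by
  by_contra hne
  obtain ⟨x, rfl⟩ := hg
  have hinv : ∀ y : M, y * y = 1 → y ≠ 1 → ι y ∉ N := by
    intro y h2 h1 hy
    obtain ⟨a, ha⟩ := isConj_iff.1 (h.invol_isConj h2 h1)
    refine htN ?_
    have := hN.conj_mem _ hy a⁻¹
    rwa [← ha, inv_inv, show a⁻¹ * (a * ι mT * a⁻¹) * a = ι mT by group] at this
  have hconj : ∀ y : M, ι (y * x * y⁻¹) ∈ N := fun y => by
    rw [map_mul, map_mul, map_inv]
    exact hN.conj_mem _ hgN _
  rcases exists_invol_comm x (fun e => hne (by rw [e, map_one])) with rfl | ⟨y, hy | hy | hy⟩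
  · exact htN hgN
  · refine hinv _ hy.1 hy.2 ?_
    have e : x * y * x⁻¹ * y⁻¹ = x * (y * x * y⁻¹)⁻¹ := by group
    rw [e, map_mul, map_inv]
    exact N.mul_mem hgN (N.inv_mem (hconj y))
  · refine hinv _ hy.1 hy.2 ?_
    rw [map_mul]
    exact N.mul_mem hgN (hconj y)
  · refine hinv _ hy.1 hy.2 ?_
    rw [map_mul, map_mul]
    exact N.mul_mem (N.mul_mem hgN hgN) (hconj y)

omit h in
theorem four_mem_range (ι : M →* G) : four ι ≤ ι.range := by
  rintro _ ⟨i, rfl⟩
  exact ⟨vM i, rfl⟩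

theorem four_not_cyclic : ¬ IsCyclic (four ι) := by
  intro hc
  obtain ⟨g, hg⟩ := hc.exists_generator
  have h2 : g ^ 2 = 1 := by
    obtain ⟨i, hi⟩ := g.2
    exact Subtype.ext (by rw [SubmonoidClass.coe_pow, ← hi, sq, sv_sq]; rfl)
  have := orderOf_dvd_of_pow_eq_one h2
  rw [orderOf_eq_card_of_forall_mem_zpowers hg, h.card_four] at this
  norm_num at this

/-- The involution centralizes the odd core. -/
theorem commute_oddCore {o : G} (ho : o ∈ Cfsg.pPrimeCore 2 G) : Commute o (ι mT) := by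
  have ht0 : ι mT ∉ Cfsg.pPrimeCore 2 G := notMem_pPrimeCore h.orderOf_t
  have hle : Cfsg.pPrimeCore 2 G ≤ centralizer ({ι mT} : Set G) := by
    haveI : (Cfsg.pPrimeCore 2 G).Normal := by
      haveI := CfsgLib.Coprime.pPrimeCore_characteristic (G := G) 2
      infer_instance
    refine CfsgLib.Coprime.le_of_centralizers_le (A := four ι) h.four_not_cyclic ?_ ?_ ?_
    · rw [normalizer_eq_top]
      exact le_top
    · rw [h.card_four]
      exact Nat.Coprime.pow_left 3 (CfsgLib.Coprime.pPrimeCore_coprime Nat.prime_two).symm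
    rintro _ ⟨i, rfl⟩ hne o ⟨hoO, hoc⟩
    have hi : i ≠ 0 := fun e => hne (e ▸ sv_zero ι)
    obtain ⟨n, hn, hnt⟩ := h.exists_normalizer_to hi
    have h' := h.rebase hn
    set ι' := (MulAut.conj n).toMonoidHom.comp ι with hι'
    have hι't : ι' mT = sv ι i := hnt
    have ht' : ι' mT ∉ Cfsg.pPrimeCore 2 G := notMem_pPrimeCore h'.orderOf_t
    have hoc' : Commute o (ι' mT) := hι't ▸ mem_centralizer_singleton_iff.1 hoc
    obtain ⟨k, hk⟩ : ι mT ∈ four ι' := h.four_rebase hn ▸ (⟨1, sv_one ι⟩ : ι mT ∈ four ι)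
    rw [mem_centralizer_singleton_iff, ← hk]
    have hd : sv ι' k * o * (sv ι' k)⁻¹ * o⁻¹ = 1 := by
      refine h'.eq_one_of_mem_range _ ht' ?_ ?_
      · exact Subgroup.mul_mem _ ((inferInstance : (Cfsg.pPrimeCore 2 G).Normal).conj_mem o hoO _)
          (Subgroup.inv_mem _ hoO)
      · rw [show sv ι' k * o * (sv ι' k)⁻¹ * o⁻¹ = sv ι' k * (o * (sv ι' k)⁻¹ * o⁻¹) by group]
        exact mul_mem (mem_range_sv ι' k) (h'.conj_mem_range hoc' (inv_mem (mem_range_sv ι' k)))
    exact (mul_inv_eq_iff_eq_mul.1 (mul_inv_eq_one.1 hd)).symm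
  exact mem_centralizer_singleton_iff.1 (hle ho)

/-- A normal subgroup missing the involution is centralized by it. -/
theorem commute_normal (N : Subgroup G) [hN : N.Normal] (htN : ι mT ∉ N) {a : G} (ha : a ∈ N) :
    Commute a (ι mT) := by
  set t := ι mT with ht
  have htt : t * t = 1 := invol_mul_self h.orderOf_t
  set K : Subgroup G :=
    { carrier := {g | g ∈ N ∨ t * g ∈ N}
      one_mem' := Or.inl (one_mem _)
      mul_mem' := by
        rintro x y hx hy
        have hc : ∀ z ∈ N, t * z * t⁻¹ ∈ N := fun z hz => hN.conj_mem z hz t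
        rcases hx with hx | hx <;> rcases hy with hy | hy
        · exact Or.inl (N.mul_mem hx hy)
        · refine Or.inr ?_
          rw [show t * (x * y) = t * x * t⁻¹ * (t * y) by group]
          exact N.mul_mem (hc x hx) hy
        · refine Or.inr ?_
          rw [← mul_assoc]
          exact N.mul_mem hx hy
        · refine Or.inl ?_
          have h2 := N.mul_mem (hc _ hx) hy
          rwa [show t * (t * x) * t⁻¹ * (t * y) = (t * t) * (x * y) by group, htt, one_mul] at h2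
      inv_mem' := by
        rintro x (hx | hx)
        · exact Or.inl (N.inv_mem hx)
        · refine Or.inr ?_
          have h2 := hN.conj_mem _ (N.inv_mem hx) t
          rwa [mul_inv_rev, show t * (x⁻¹ * t⁻¹) * t⁻¹ = t * x⁻¹ * (t * t)⁻¹ by group, htt, inv_one,
            mul_one] at h2 } with hK
  have htK : t ∈ K := Or.inr (htt ▸ one_mem _)
  have hiso : Cfsg.IsIsolatedInvolution (⟨t, htK⟩ : K) := by
    refine ⟨by rw [Subgroup.orderOf_mk]; exact h.orderOf_t, fun g hg => Subtype.ext ?_⟩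
    have hg' : Commute t ((g : G) * t * (g : G)⁻¹) := congrArg Subtype.val hg.eq
    have hdN : (g : G) * t * (g : G)⁻¹ * t⁻¹ ∈ N := by
      rcases g.2 with hh | hh
      · rw [show (g : G) * t * (g : G)⁻¹ * t⁻¹ = (g : G) * (t * (g : G)⁻¹ * t⁻¹) by group]
        exact N.mul_mem hh (hN.conj_mem _ (N.inv_mem hh) t)
      · have hm : (g : G) = t * (t * (g : G)) := by rw [← mul_assoc, htt, one_mul]
        set n := t * (g : G)
        rw [hm, show t * n * t * (t * n)⁻¹ * t⁻¹ = (t * n * t⁻¹) * ((t * t) * n⁻¹ * (t * t)⁻¹) by group,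
          htt, one_mul, inv_one, mul_one]
        exact N.mul_mem (hN.conj_mem n hh t) (N.inv_mem hh)
    have hdr : (g : G) * t * (g : G)⁻¹ * t⁻¹ ∈ ι.range :=
      mul_mem (h.mem_range_of_conj hg'.symm.eq) (inv_mem ⟨mT, rfl⟩)
    have := h.eq_one_of_mem_range N htN hdN hdr
    rwa [mul_inv_eq_one] at this
  have hNK : N ≤ K := fun x hx => Or.inl hx
  set c : G := t * a * t⁻¹ * a⁻¹ with hc
  have hcO : c ∈ ProdFusion.OC K := ⟨_, zstar hiso ⟨a, hNK ha⟩, rfl⟩
  have hle : ProdFusion.OC K ≤ N := by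
    intro x hx
    rcases ProdFusion.OC_le K hx with hh | hh
    · exact hh
    · exfalso
      obtain ⟨m, hm⟩ := ProdFusion.odd_orderOf_of_mem (ProdFusion.odd_card_OC K) hx
      have hx2 : x * x ∈ N := by
        have h2 := N.mul_mem (hN.conj_mem _ hh t) hh
        rwa [show t * (t * x) * t⁻¹ * (t * x) = (t * t) * (x * x) by group, htt, one_mul] at h2
      have hxN : x ∈ N := by
        have h3 : x ^ (2 * m + 1) ∈ N := by rw [← hm, pow_orderOf_eq_one]; exact one_mem _
        rw [pow_succ', pow_mul, pow_two] at h3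
        exact (mul_mem_cancel_right (pow_mem hx2 m)).1 h3
      exact htN (by simpa using N.mul_mem hh (N.inv_mem hxN))
  have hcG : c ∈ Cfsg.pPrimeCore 2 G := by
    have h1 : ProdFusion.OC K ≤ ProdFusion.OC N := ProdFusion.le_OC hle (ProdFusion.odd_card_OC K)
      (hNK.trans (ProdFusion.le_normalizer_OC_self K))
    have h2 := h1 hcO
    rw [ProdFusion.OC, CfsgLib.Coprime.pPrimeCore_map_subtype_eq Nat.prime_two] at h2
    exact h2.1
  have hinv : t * c * t⁻¹ = c⁻¹ := by
    rw [hc, show t * (t * a * t⁻¹ * a⁻¹) * t⁻¹ = (t * t) * a * t⁻¹ * a⁻¹ * t⁻¹ by group, htt, one_mul,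
      inv_eq_of_mul_eq_one_right htt]
    simp only [mul_inv_rev, inv_inv, inv_eq_of_mul_eq_one_right htt, mul_assoc]
  have hfix : t * c * t⁻¹ = c := mul_inv_eq_iff_eq_mul.2 (h.commute_oddCore hcG).symm.eq
  have hc1 : c = 1 := ProdFusion.eq_one_of_sq (ProdFusion.odd_card_OC K) hcO
    (mul_eq_one_iff_eq_inv.2 (hfix.symm.trans hinv))
  rw [hc, mul_inv_eq_one] at hc1
  exact (mul_inv_eq_iff_eq_mul.1 hc1).symm

end Hyp

end CfsgLib.Invol.JOneWeak
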