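import Cfsg.Agent.Lib.Invol.JOneWeak.Normal
import Cfsg.Agent.Lib.ProdFusion.Main
import Mathlib.GroupTheory.Focal

/-!
# Weak closure of type `2 × A₅`: the group generated by the class

The Sylow subgroup is the standard eight and the centralizer of the involution is the product of the
weak closure and the subgroup of squares in the centralizer of the standard eight.
-/

set_option autoImplicit false
set_option linter.style.haveILetI false

namespace CfsgLib.Invol.JOneWeak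

open Subgroup CfsgLib.Invol.JTwo.Icosa CfsgLib.Spor.J1Type
open scoped commutatorElement

universe u

variable {G : Type u} [Group G]

/-- The squares in the centralizer of the standard eight. -/
def sqC (ι : M →* G) : Subgroup G := closure {x : G | ∃ c ∈ cE ι, c * c = x}

theorem sqC_le_cE (ι : M →* G) : sqC ι ≤ cE ι := by
  refine (closure_le _).2 ?_
  rintro _ ⟨c, hc, rfl⟩
  exact mul_mem hc hc

theorem sq_mem_sqC {ι : M →* G} {c : G} (hc : c ∈ cE ι) : c * c ∈ sqC ι := subset_closure ⟨c, hc, rfl⟩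

variable [Finite G]

theorem nE_le_normalizer_sqC (ι : M →* G) : nE ι ≤ normalizer (sqC ι : Set G) := by
  intro n hn
  refine ProdFusion.mem_of_forall_conj_mem fun x hx => ?_
  have : sqC ι ≤ (sqC ι).comap (MulAut.conj n).toMonoidHom := by
    refine (closure_le _).2 ?_
    rintro _ ⟨c, hc, rfl⟩
    show n * (c * c) * n⁻¹ ∈ sqC ι
    rw [show n * (c * c) * n⁻¹ = n * c * n⁻¹ * (n * c * n⁻¹) by group]
    exact sq_mem_sqC (conj_mem_cE hn hc)
  exact this hx

namespace Hyp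

variable {ι : M →* G} {S : Sylow 2 G} (h : Hyp ι S)
include h

theorem cE_rebase {n : G} (hn : n ∈ nE ι) : cE ((MulAut.conj n).toMonoidHom.comp ι) = cE ι := by
  rw [cE, cE, h.four_rebase hn]

theorem sqC_rebase {n : G} (hn : n ∈ nE ι) : sqC ((MulAut.conj n).toMonoidHom.comp ι) = sqC ι := by
  rw [sqC, sqC, h.cE_rebase hn]

/-- The squares centralize the weak closure. -/
theorem sqC_commute {q : G} (hq : q ∈ sqC ι) (x : M) : Commute q (ι x) := by
  have hle : sqC ι ≤ centralizer ({ι x} : Set G) := by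
    refine (closure_le _).2 ?_
    rintro _ ⟨c, hc, rfl⟩
    obtain ⟨i, d, rfl, hd⟩ := h.cE_decomp hc
    refine mem_centralizer_singleton_iff.2 ?_
    have e : sv ι i * d * (sv ι i * d) = d * d := by
      rw [show sv ι i * d * (sv ι i * d) = sv ι i * (d * sv ι i) * d by group,
        (show Commute d (sv ι i) from hd (vM i)).eq, ← mul_assoc, sv_sq, one_mul]
    rw [e]
    exact ((hd x).mul_left (hd x)).eq
  exact mem_centralizer_singleton_iff.1 (hle hq)

theorem central_in_range {g : G} (hg : g ∈ four ι) (hc : ∀ x, Commute g (ι x)) :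
    g = 1 ∨ g = ι mT := by
  obtain ⟨i, rfl⟩ := hg
  rcases central_index i (fun x => h.inj (by rw [map_mul, map_mul]; exact (hc x).eq)) with rfl | rfl
  · exact Or.inl (sv_zero ι)
  · exact Or.inr (sv_one ι)

theorem sqC_inf_four : sqC ι ⊓ four ι = ⊥ := by
  rw [eq_bot_iff]
  rintro g ⟨hq, hg⟩
  rcases h.central_in_range hg (h.sqC_commute hq) with rfl | rfl
  · exact mem_bot.2 rfl
  · exfalso
    obtain ⟨n, hn, hnt⟩ := h.exists_normalizer_to (i := 2) (by decide)
    have h' := h.rebase hn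
    rcases h'.central_in_range (h.four_rebase hn ▸ hg)
      (h'.sqC_commute (h.sqC_rebase hn ▸ hq)) with e | e
    · exact mT_rel.2.1 (h.inj (e.trans (map_one ι).symm))
    · exact absurd (h.sv_injective ((sv_one ι).trans (e.trans hnt))) (by decide)

/-- The subgroup of squares together with the standard eight. -/
theorem sup_le_cE : sqC ι ⊔ four ι ≤ cE ι := sup_le (sqC_le_cE ι) h.four_le_cE

theorem nE_le_normalizer_sup : nE ι ≤ normalizer ((sqC ι ⊔ four ι : Subgroup G) : Set G) := by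
  intro n hn
  refine ProdFusion.mem_of_forall_conj_mem fun x hx => ?_
  have : sqC ι ⊔ four ι ≤ (sqC ι ⊔ four ι).comap (MulAut.conj n).toMonoidHom :=
    sup_le (fun y hy => mem_sup_left ((mem_normalizer_iff.1 (nE_le_normalizer_sqC ι hn) y).1 hy))
      fun y hy => mem_sup_right ((mem_normalizer_iff.1 hn y).1 hy)
  exact this hx

/-- The normalizer of the standard eight acts trivially on its centralizer modulo squares and the
eight. -/
theorem commutator_mem_sup {n c : G} (hn : n ∈ nE ι) (hc : c ∈ cE ι) :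
    n * c * n⁻¹ * c⁻¹ ∈ sqC ι ⊔ four ι := by
  set U := sqC ι ⊔ four ι with hU
  let K : Subgroup G :=
    { carrier := {g | g ∈ nE ι ∧ ∀ c ∈ cE ι, g * c * g⁻¹ * c⁻¹ ∈ U}
      one_mem' := ⟨one_mem _, fun c _ => by simp⟩
      mul_mem' := by
        rintro a b ⟨ha, ha'⟩ ⟨hb, hb'⟩
        refine ⟨mul_mem ha hb, fun c hc => ?_⟩
        rw [show a * b * c * (a * b)⁻¹ * c⁻¹ =
          (a * (b * c * b⁻¹ * c⁻¹) * a⁻¹) * (a * c * a⁻¹ * c⁻¹) by group]
        exact U.mul_mem ((mem_normalizer_iff.1 (h.nE_le_normalizer_sup ha) _).1 (hb' c hc)) (ha' c hc)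
      inv_mem' := by
        rintro a ⟨ha, ha'⟩
        refine ⟨inv_mem ha, fun c hc => ?_⟩
        have h1 := U.inv_mem (ha' _ (conj_mem_cE (inv_mem ha) hc))
        rwa [show (a * (a⁻¹ * c * a⁻¹⁻¹) * a⁻¹ * (a⁻¹ * c * a⁻¹⁻¹)⁻¹)⁻¹ = a⁻¹ * c * a⁻¹⁻¹ * c⁻¹ by
          group] at h1 }
  suffices hK : nE ι ≤ K from (hK hn).2 c hc
  have hcK : cE ι ≤ K := fun a ha => ⟨cE_le_nE ι ha, fun c hc => by
    rw [show a * c * a⁻¹ * c⁻¹ = (a * a) * ((a⁻¹ * c) * (a⁻¹ * c)) * (c⁻¹ * c⁻¹) by group]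
    exact mem_sup_left (mul_mem (mul_mem (sq_mem_sqC ha) (sq_mem_sqC (mul_mem (inv_mem ha) hc)))
      (sq_mem_sqC (inv_mem hc)))⟩
  have hbK : ∀ m ∈ nE ι, m * ι (mA b0) * m⁻¹ ∈ K := by
    intro m hm
    have h' := h.rebase hm
    refine ⟨mul_mem (mul_mem hm h.b_mem_normalizer) (inv_mem hm), fun c hc => ?_⟩
    obtain ⟨i, d, rfl, hd⟩ := h'.cE_decomp (h.cE_rebase hm ▸ hc)
    set ι' := (MulAut.conj m).toMonoidHom.comp ι with hι'
    have he : m * ι (mA b0) * m⁻¹ = ι' (mA b0) := rfl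
    have e1 : ι' (mA b0) * (sv ι' i * d) * (ι' (mA b0))⁻¹ * (sv ι' i * d)⁻¹ =
        sv ι' (bOp i) * (sv ι' i)⁻¹ := by
      calc ι' (mA b0) * (sv ι' i * d) * (ι' (mA b0))⁻¹ * (sv ι' i * d)⁻¹
          = (ι' (mA b0) * sv ι' i * (ι' (mA b0))⁻¹) * (ι' (mA b0) * d * (ι' (mA b0))⁻¹) * d⁻¹ *
              (sv ι' i)⁻¹ := by group
        _ = sv ι' (bOp i) * (sv ι' i)⁻¹ := by
          rw [b_conj, mul_inv_eq_iff_eq_mul.2 (hd (mA b0)).symm.eq, mul_inv_cancel_right]
    rw [he, e1]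
    refine mem_sup_right (h.four_rebase hm ▸ ?_)
    exact mul_mem (sv_mem ι' _) (inv_mem (sv_mem ι' _))
  refine h.nE_le K (fun g hg => hg.1) hbK fun g hg hgt => ?_
  obtain ⟨l, hl⟩ := h.exists_pow_mul_mem hg hgt
  have hb1 := hbK 1 (one_mem _)
  rw [one_mul, inv_one, mul_one] at hb1
  have := K.mul_mem (K.inv_mem (K.pow_mem hb1 l)) (hcK hl)
  rwa [inv_mul_cancel_left] at this

/-- Two conjugates of the standard eight in a common 2-subgroup coincide. -/
theorem eq_of_conj_le {P : Subgroup G} (hP : IsPGroup 2 P) {a b : G}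
    (ha : ∀ i, a * sv ι i * a⁻¹ ∈ P) (hb : ∀ i, b * sv ι i * b⁻¹ ∈ P) :
    a⁻¹ * b ∈ nE ι := by
  haveI : Fact (Nat.Prime 2) := ⟨Nat.prime_two⟩
  obtain ⟨g, hg⟩ := CfsgLib.Invol.exists_conj_le_sylow hP S
  have key : ∀ c : G, (∀ i, c * sv ι i * c⁻¹ ∈ P) → g * c ∈ nE ι := fun c hc =>
    h.mem_normalizer_four fun i => by
      have h1 := hg _ (hc i)
      rw [show g * (c * sv ι i * c⁻¹) * g⁻¹ = g * c * sv ι i * (g * c)⁻¹ by group] at h1
      exact h.conj_mem_four h1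
  have := mul_mem (inv_mem (key a ha)) (key b hb)
  rwa [mul_inv_rev, mul_assoc, inv_mul_cancel_left] at this

/-- Fusion in the Sylow subgroup is controlled by the normalizer of the standard eight. -/
theorem control {s g : G} (hs : s ∈ (S : Subgroup G)) (hgs : g * s * g⁻¹ ∈ (S : Subgroup G)) :
    ∃ n ∈ nE ι, n * s * n⁻¹ = g * s * g⁻¹ := by
  haveI : Fact (Nat.Prime 2) := ⟨Nat.prime_two⟩
  set C := centralizer ({s} : Set G) with hC
  have hE : four ι ≤ C := by
    rintro _ ⟨i, rfl⟩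
    exact mem_centralizer_singleton_iff.2 (mem_cE.1 (h.S_le_cE hs) i).symm
  set E' : Subgroup G := (four ι).map (MulAut.conj g⁻¹).toMonoidHom with hE'
  have hE'C : E' ≤ C := by
    rintro _ ⟨_, ⟨i, rfl⟩, rfl⟩
    show g⁻¹ * sv ι i * g⁻¹⁻¹ ∈ C
    refine mem_centralizer_singleton_iff.2 ?_
    calc g⁻¹ * sv ι i * g⁻¹⁻¹ * s = g⁻¹ * (sv ι i * (g * s * g⁻¹)) * g := by group
      _ = g⁻¹ * (g * s * g⁻¹ * sv ι i) * g := by rw [mem_cE.1 (h.S_le_cE hgs) i]
      _ = s * (g⁻¹ * sv ι i * g⁻¹⁻¹) := by group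
  have hp4 : IsPGroup 2 (four ι) := S.2.to_le h.four_le
  obtain ⟨P, hP⟩ := (hp4.comap_subtype (K := C)).exists_le_sylow
  obtain ⟨k, hk⟩ := CfsgLib.Invol.exists_conj_le_sylow ((hp4.map _).comap_subtype (K := C) : IsPGroup 2 (E'.subgroupOf C)) P
  have hPG : IsPGroup 2 ((P : Subgroup C).map C.subtype) := P.2.map _
  have hn := h.eq_of_conj_le hPG (a := 1) (b := (k : G) * g⁻¹)
    (fun i => ⟨⟨sv ι i, hE (sv_mem ι i)⟩, hP (mem_subgroupOf.2 (sv_mem ι i)), by simp⟩)
    fun i => by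
      have hm : g⁻¹ * sv ι i * g⁻¹⁻¹ ∈ E' := ⟨sv ι i, sv_mem ι i, rfl⟩
      refine ⟨k * ⟨_, hE'C hm⟩ * k⁻¹, hk _ (mem_subgroupOf.2 hm), ?_⟩
      simp [mul_assoc]
  rw [inv_one, one_mul] at hn
  refine ⟨g * (k : G)⁻¹, ?_, ?_⟩
  · have := inv_mem hn
    rwa [mul_inv_rev, inv_inv] at this
  · rw [show g * (k : G)⁻¹ * s * (g * (k : G)⁻¹)⁻¹ = g * ((k : G)⁻¹ * (s * k)) * g⁻¹ by group,
      ← mem_centralizer_singleton_iff.1 k.2, inv_mul_cancel_left]

variable (htop : normalClosure ({ι mT} : Set G) = ⊤)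
include htop

theorem le_center (N : Subgroup G) [hN : N.Normal] (hne : N ≠ ⊤) : N ≤ center G := by
  have htN : ι mT ∉ N := fun hh => hne (top_le_iff.1 (htop ▸ normalClosure_le_normal
    (Set.singleton_subset_iff.2 hh)))
  intro a ha
  have hle : normalClosure ({ι mT} : Set G) ≤ centralizer (N : Set G) := by
    haveI : (centralizer (N : Set G)).Normal := Subgroup.normal_centralizer
    refine normalClosure_le_normal (Set.singleton_subset_iff.2 (mem_centralizer_iff.2 fun b hb => ?_))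
    exact (h.commute_normal N htN hb).eq
  exact mem_center_iff.2 fun g => (mem_centralizer_iff.1 (hle (htop ▸ mem_top g)) a ha).symm

theorem perfect : commutator G = ⊤ := by
  by_contra hne
  have hle := h.le_center htop (commutator G) hne
  have hm : sv ι 2 ∈ commutator G := by
    obtain ⟨p, q, hpq⟩ := even_comm 2 (by decide)
    rw [sv, hpq, show p * q * p⁻¹ * q⁻¹ = ⁅p, q⁆ from rfl, map_commutatorElement]
    exact commutator_mem_commutator (mem_top _) (mem_top _)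
  rcases h.central_in_range (sv_mem ι 2) (fun x => (mem_center_iff.1 (hle hm) (ι x)).symm) with e | e
  · exact absurd (h.sv_eq_one e) (by decide)
  · exact absurd (h.sv_injective (e.trans (sv_one ι).symm)) (by decide)

theorem pPrimeCore_le_center : Cfsg.pPrimeCore 2 G ≤ center G := by
  haveI : (Cfsg.pPrimeCore 2 G).Normal := by
    haveI := CfsgLib.Coprime.pPrimeCore_characteristic (G := G) 2
    infer_instance
  exact h.le_center htop _ fun e => notMem_pPrimeCore h.orderOf_t (e ▸ mem_top _)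

/-- The Sylow subgroup is the standard eight. -/
theorem S_eq : (S : Subgroup G) = four ι := by
  haveI : Fact (Nat.Prime 2) := ⟨Nat.prime_two⟩
  have hfoc : (S : Subgroup G) = (S : Subgroup G).focalSubgroup := by
    rw [← commutator_inf_eq_focalSubgroup, h.perfect htop, top_inf_eq]
  -- first round
  have hSU : (S : Subgroup G) ≤ sqC ι ⊔ four ι := by
    conv_lhs => rw [hfoc, focalSubgroup_def]
    refine (closure_le _).2 ?_
    rintro _ ⟨hgS, x, hx, g, rfl⟩
    have hcx : g * x⁻¹ * g⁻¹ ∈ (S : Subgroup G) := by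
      have := (S : Subgroup G).mul_mem ((S : Subgroup G).inv_mem hx) hgS
      rwa [commutatorElement_def, show x⁻¹ * (x * g * x⁻¹ * g⁻¹) = g * x⁻¹ * g⁻¹ by group] at this
    obtain ⟨n, hn, e⟩ := h.control ((S : Subgroup G).inv_mem hx) hcx
    rw [commutatorElement_def, show x * g * x⁻¹ * g⁻¹ = x * (g * x⁻¹ * g⁻¹) by group, ← e,
      show x * (n * x⁻¹ * n⁻¹) = (n * x * n⁻¹ * x⁻¹)⁻¹ by group]
    exact Subgroup.inv_mem _ (h.commutator_mem_sup hn (h.S_le_cE hx))
  set T : Subgroup G := (S : Subgroup G) ⊓ sqC ι with hT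
  have hdec : ∀ s ∈ (S : Subgroup G), ∃ τ ∈ T, ∃ e ∈ four ι, τ * e = s := by
    intro s hs
    obtain ⟨q, hq, e, he, rfl⟩ := CfsgLib.Coprime.mem_sup_exists (N := sqC ι) (H := four ι)
      (fun u hu => nE_le_normalizer_sqC ι (le_normalizer hu)) (hSU hs)
    refine ⟨q, ⟨?_, hq⟩, e, he, rfl⟩
    have := (S : Subgroup G).mul_mem hs ((S : Subgroup G).inv_mem (h.four_le he))
    rwa [mul_inv_cancel_right] at this
  have hTc : Cfsg.IsStronglyClosed T (S : Subgroup G) := ⟨inf_le_left, fun x hx g hg => by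
    obtain ⟨n, hn, e⟩ := h.control hx.1 hg
    exact ⟨hg, e ▸ (mem_normalizer_iff.1 (nE_le_normalizer_sqC ι hn) x).1 hx.2⟩⟩
  have hprod := ProdFusion.commutator_normalClosure_le S h.stronglyClosed_four hTc
    (fun a ha b hb => ((mem_centralizer_iff.1 (h.S_le_cE hb.1)) a ha))
    (by
      rw [eq_bot_iff, ← h.sqC_inf_four]
      exact fun g hg => ⟨hg.2.2, hg.1⟩)
  have hEtop : normalClosure (four ι : Set G) = ⊤ := top_le_iff.1 (htop ▸ normalClosure_mono
    (Set.singleton_subset_iff.2 ⟨1, sv_one ι⟩))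
  rw [hEtop] at hprod
  set T' := normalClosure (T : Set G) with hT'
  have hT'c : T' ≤ center G := by
    have hz : ⁅⁅(⊤ : Subgroup G), T'⁆, (⊤ : Subgroup G)⁆ = ⊥ := by
      rw [commutator_eq_bot_iff_le_centralizer, coe_top, centralizer_univ]
      exact hprod.trans (h.pPrimeCore_le_center htop)
    have h3 := commutator_commutator_eq_bot_of_rotate (H₁ := ⊤) (H₂ := ⊤) (H₃ := T') hz
      (by rwa [commutator_comm T' ⊤])
    rw [show ⁅(⊤ : Subgroup G), (⊤ : Subgroup G)⁆ = commutator G from rfl, h.perfect htop,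
      commutator_comm, commutator_eq_bot_iff_le_centralizer, coe_top, centralizer_univ] at h3
    exact h3
  refine le_antisymm ?_ h.four_le
  conv_lhs => rw [hfoc, focalSubgroup_def]
  refine (closure_le _).2 ?_
  rintro _ ⟨hgS, x, hx, g, rfl⟩
  obtain ⟨τ, hτ, e, he, rfl⟩ := hdec x hx
  have hτc : ∀ y, y * τ = τ * y := mem_center_iff.1 (hT'c (subset_normalClosure hτ))
  have hkey : ⁅τ * e, g⁆ = e * (g * e⁻¹ * g⁻¹) := by
    rw [commutatorElement_def, show τ * e * g * (τ * e)⁻¹ * g⁻¹ = τ * (e * g * e⁻¹) * τ⁻¹ * g⁻¹ by group,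
      ← hτc, mul_inv_cancel_right]
    group
  rw [hkey] at hgS ⊢
  obtain ⟨i, hi⟩ := (four ι).inv_mem he
  have h1 : g * sv ι i * g⁻¹ ∈ (S : Subgroup G) := by
    have := (S : Subgroup G).mul_mem ((S : Subgroup G).inv_mem (h.four_le he)) hgS
    rw [inv_mul_cancel_left] at this
    rwa [hi]
  exact mul_mem he (hi ▸ h.conj_mem_four h1)

theorem mem_four_of_cE {v : G} (hv : v ∈ cE ι) (hp : IsPGroup 2 (zpowers v)) : v ∈ four ι := by
  haveI : Fact (Nat.Prime 2) := ⟨Nat.prime_two⟩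
  have hP : IsPGroup 2 (zpowers v ⊔ four ι : Subgroup G) :=
    hp.to_sup_of_normal_right' (S.2.to_le h.four_le) (fun x hx => by
      obtain ⟨z, rfl⟩ := mem_zpowers_iff.1 hx
      exact zpow_mem (cE_le_nE ι hv) z)
  obtain ⟨g, hg⟩ := CfsgLib.Invol.exists_conj_le_sylow hP S
  have hcard : Nat.card (zpowers v ⊔ four ι : Subgroup G) ≤ Nat.card (four ι) := by
    calc Nat.card (zpowers v ⊔ four ι : Subgroup G)
        = Nat.card ((zpowers v ⊔ four ι : Subgroup G).map (MulAut.conj g).toMonoidHom) :=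
          (card_map_of_injective (MulAut.conj g).injective).symm
      _ ≤ Nat.card (four ι) := card_le_of_le (by
          rintro _ ⟨y, hy, rfl⟩
          exact h.S_eq htop ▸ hg y hy)
  exact (eq_of_le_of_card_ge le_sup_right hcard).ge (mem_sup_left (mem_zpowers v))

/-- The centralizer of the standard eight is its product with the squares. -/
theorem cE_eq {c : G} (hc : c ∈ cE ι) : ∃ i, ∃ q ∈ sqC ι, c = sv ι i * q := by
  haveI : Fact (Nat.Prime 2) := ⟨Nat.prime_two⟩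
  obtain ⟨k, m, hm, hord⟩ := Nat.exists_eq_two_pow_mul_odd (orderOf_pos c).ne'
  obtain ⟨r, rfl⟩ := hm
  set c2 := c ^ (2 * r + 1) with hc2
  have h2k : c2 ^ 2 ^ k = 1 := by rw [hc2, ← pow_mul, mul_comm, ← hord, pow_orderOf_eq_one]
  have hPc : IsPGroup 2 (zpowers c2) := by
    obtain ⟨j, -, hj⟩ := (Nat.dvd_prime_pow Nat.prime_two).1 (orderOf_dvd_of_pow_eq_one h2k)
    exact IsPGroup.of_card (n := j) (by rw [Nat.card_zpowers, hj])
  obtain ⟨i, hi⟩ := h.mem_four_of_cE htop (pow_mem hc _) hPc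
  refine ⟨i, ((c * c) ^ r)⁻¹, inv_mem (pow_mem (sq_mem_sqC hc) r), ?_⟩
  rw [hi, pow_succ', pow_mul, pow_two, mul_inv_cancel_right]

theorem odd_sqC : Odd (Nat.card (sqC ι)) := by
  haveI : Fact (Nat.Prime 2) := ⟨Nat.prime_two⟩
  rw [← Nat.not_even_iff_odd, even_iff_two_dvd]
  intro h2
  obtain ⟨⟨v, hv⟩, hvo⟩ := exists_prime_orderOf_dvd_card' 2 h2
  rw [Subgroup.orderOf_mk] at hvo
  have hvE := h.mem_four_of_cE htop (sqC_le_cE ι hv)
    (IsPGroup.of_card (n := 1) (by rw [Nat.card_zpowers, hvo, pow_one]))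
  have : v ∈ sqC ι ⊓ four ι := ⟨hv, hvE⟩
  rw [h.sqC_inf_four, mem_bot] at this
  rw [this, orderOf_one] at hvo
  norm_num at hvo

/-- The centralizer of the involution. -/
theorem centralizer_t {g : G} (hg : Commute g (ι mT)) : ∃ x, ∃ q ∈ sqC ι, g = ι x * q := by
  have hC : ∀ i, g * sv ι i * g⁻¹ ∈ ι.range := fun i => h.conj_mem_range hg (mem_range_sv ι i)
  obtain ⟨w, hw⟩ : ∃ w : M, ι w * g ∈ nE ι := by
    haveI : Fact (Nat.Prime 2) := ⟨Nat.prime_two⟩
    have hp4 : IsPGroup 2 (four ι) := S.2.to_le h.four_le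
    set E' : Subgroup G := (four ι).map (MulAut.conj g).toMonoidHom
    have hle : E' ≤ ι.range := by rintro _ ⟨_, ⟨i, rfl⟩, rfl⟩; exact hC i
    obtain ⟨P, hP⟩ := (hp4.comap_subtype (K := ι.range)).exists_le_sylow
    obtain ⟨k, hk⟩ := CfsgLib.Invol.exists_conj_le_sylow ((hp4.map _).comap_subtype (K := ι.range) : IsPGroup 2 (E'.subgroupOf ι.range)) P
    have hn := h.eq_of_conj_le (P.2.map ι.range.subtype) (a := 1) (b := (k : G) * g)
      (fun i => ⟨⟨sv ι i, mem_range_sv ι i⟩, hP (mem_subgroupOf.2 (sv_mem ι i)), by simp⟩)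
      fun i => by
        have hm : g * sv ι i * g⁻¹ ∈ E' := ⟨sv ι i, sv_mem ι i, rfl⟩
        refine ⟨k * ⟨_, hle hm⟩ * k⁻¹, hk _ (mem_subgroupOf.2 hm), ?_⟩
        simp [mul_assoc]
    rw [inv_one, one_mul] at hn
    obtain ⟨w, hw⟩ := k.2
    exact ⟨w, by rw [hw]; exact hn⟩
  obtain ⟨l, hl⟩ := h.exists_pow_mul_mem hw ((commute_t ι w).mul_left hg)
  obtain ⟨i, q, hq, e⟩ := h.cE_eq htop hl
  refine ⟨w⁻¹ * ((mA b0) ^ l)⁻¹ * vM i, q, hq, ?_⟩
  rw [map_mul, map_mul, map_inv, map_inv, map_pow, show ι (vM i) = sv ι i from rfl, mul_assoc, ← e]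
  group

end Hyp

end CfsgLib.Invol.JOneWeak
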